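import Cfsg.Agent.Lib.BSW.MinusTI

/-!
The structure of the Brauer–Suzuki–Wall configuration with `q = 2|K| - 1`.
-/

set_option autoImplicit false

namespace Cfsg.Agent.Lib.BSW

open Cfsg.Agent.Lib

universe u

namespace Setup

variable {G : Type u} [Group G] [Fintype G] (S : Setup G)

omit [Fintype G] in
/-- An element of odd order of `C(t)` lies in `K`. -/
theorem mem_K_of_odd {x : G} (hx : x * S.t = S.t * x) (hodd : Odd (orderOf x)) : x ∈ S.K := by
  by_contra h
  rw [S.orderOf_outside hx h] at hodd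
  exact absurd hodd (by decide)

/-- An element of odd order in the normaliser of a torus of order `|K| - 1` lies in the torus. -/
theorem mem_torus_of_odd {g h : G} (hg : S.Out g) (hi : Inverted g)
    (hc : Nat.card (Subgroup.centralizer ({g} : Set G)) = Nat.card S.K - 1)
    (hh : h ∈ Subgroup.normalizer ((Subgroup.centralizer ({g} : Set G)) : Set G))
    (hodd : Odd (orderOf h)) : h ∈ Subgroup.centralizer ({g} : Set G) := by
  obtain ⟨u, hu, hug⟩ := hi
  obtain ⟨E, -, -, -, -, hcard, hEd, hEk, -⟩ := S.torus_normalizer hg hu hug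
  set A := Subgroup.centralizer ({g} : Set G)
  set N := Subgroup.normalizer (A : Set G)
  have hk2 := Nat.le_of_dvd Nat.card_pos S.even_card_K
  have hE2 : Nat.card E ∣ 2 := by
    rw [hc] at hEd
    have h := Nat.dvd_sub hEk hEd
    rwa [show Nat.card S.K - (Nat.card S.K - 1 - 1) = 2 by omega] at h
  have hidx : (A.subgroupOf N).index ∣ 2 := by
    have hmul := Subgroup.card_mul_index (A.subgroupOf N)
    rw [Nat.card_congr (Subgroup.subgroupOfEquivOfLe Subgroup.le_normalizer).toEquiv, hcard] at hmul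
    rwa [Nat.eq_of_mul_eq_mul_left Nat.card_pos hmul]
  have hmem : (⟨h, hh⟩ : N) ^ 2 ∈ A.subgroupOf N := by
    obtain ⟨c, hc⟩ := hidx
    rw [hc, pow_mul]
    exact Subgroup.pow_mem _ (Subgroup.pow_index_mem (A.subgroupOf N) _) c
  rw [Subgroup.mem_subgroupOf, SubgroupClass.coe_pow] at hmem
  obtain ⟨j, hj⟩ := hodd
  have e : h = (h ^ 2) ^ (j + 1) := by
    rw [← pow_mul, show 2 * (j + 1) = (2 * j + 1) + 1 by ring, pow_succ, ← hj, pow_orderOf_eq_one, one_mul]
  rw [e]
  exact A.pow_mem hmem _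

/-- Trivial intersection of the Sylow subgroups for the prime of `q`. -/
theorem minus_ti (hn : (Subgroup.centralizer ({S.t} : Set G)).index
      = (2 * Nat.card S.K - 1) * (Nat.card S.K - 1))
    (hreal : ∀ g, S.Out g → Inverted g →
      Nat.card (Subgroup.centralizer ({g} : Set G)) = Nat.card S.K - 1)
    {p f : ℕ} [Fact p.Prime] (hf : 2 * Nat.card S.K - 1 = p ^ f) (hf1 : 1 ≤ f)
    (hchar : ∀ x : G, (S.Out x ∧ ¬ Inverted x) ↔ (x ≠ 1 ∧ ∃ j, orderOf x = p ^ j))
    (P P' : Sylow p G) (hne : P ≠ P') : (P : Subgroup G) ⊓ P' = ⊥ := by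
  classical
  by_contra hI
  set Pairs := (Finset.univ : Finset (Sylow p G × Sylow p G)).filter fun q => q.1 ≠ q.2 with hPairs
  obtain ⟨⟨P₁, P₂⟩, hmem, hmax⟩ := Finset.exists_max_image Pairs
    (fun q => Nat.card ((q.1 : Subgroup G) ⊓ q.2 : Subgroup G)) ⟨(P, P'), by simp [hPairs, hne]⟩
  have h12 : P₁ ≠ P₂ := (Finset.mem_filter.mp hmem).2
  set I := (P₁ : Subgroup G) ⊓ P₂ with hIdef
  have hI1 : 1 < Nat.card I := by
    refine lt_of_lt_of_le ?_ (hmax (P, P') (by simp [hPairs, hne]))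
    exact Finite.one_lt_card_iff_nontrivial.mpr ((Subgroup.nontrivial_iff_ne_bot _).mpr hI)
  have hIp : ∀ x ∈ I, x ≠ 1 → S.Out x ∧ ¬ Inverted x := fun x hx hx1 => by
    obtain ⟨j, hj⟩ := IsPGroup.iff_orderOf.mp P₁.isPGroup' ⟨x, hx.1⟩
    rw [← Subgroup.orderOf_coe] at hj
    exact (hchar x).mpr ⟨hx1, j, hj⟩
  set X := Subgroup.normalizer (I : Set G) with hX
  -- the normaliser has odd order
  have hXodd : Odd (Nat.card X) := by
    rw [← Nat.not_even_iff_odd]
    intro he
    obtain ⟨v, hvX, hv⟩ := Involution.exists_orderOf_eq_two _ he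
    haveI : Nontrivial I := Finite.one_lt_card_iff_nontrivial.mp hI1
    obtain ⟨⟨x, hx⟩, hx1⟩ := exists_ne (1 : I)
    have hx1' : x ≠ 1 := fun e => hx1 (Subtype.ext e)
    have hfree : ∀ a ∈ I, v * a * v⁻¹ = a → a = 1 := fun a ha hfx => by
      by_contra ha1
      exact S.out_not_commute (hIp a ha ha1).1 hv (mul_inv_eq_iff_eq_mul.mp hfx)
    exact (hIp x hx hx1').2 ⟨v, hv, CharCount.inverts_of_fixedPointFree (Involution.mul_self_eq_one hv)
      (fun a ha => (Subgroup.mem_normalizer_iff.mp hvX a).mp ha) hfree hx⟩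
  have hodd : ∀ w : G, w ∈ X → Odd (orderOf w) := fun w hw =>
    hXodd.of_dvd_nat (Subgroup.orderOf_dvd_natCard _ hw)
  -- the local tori
  have htori : ∀ (r : ℕ) (y : X), r.Prime → r ≠ p → orderOf y = r →
      ∃ M : Subgroup X, y ∈ M ∧ 3 ≤ Nat.card M ∧ ¬ p ∣ Nat.card M ∧
        (∀ v ∈ M, ∀ w ∈ M, v * w = w * v) ∧
        ∀ g, ∀ w ∈ M, w ≠ 1 → g * w * g⁻¹ ∈ M → g ∈ M := by
    intro r y hr hrp hy
    have hy' : orderOf (y : G) = r := by rw [Subgroup.orderOf_coe, hy]
    have hy1 : (y : G) ≠ 1 := fun e => by rw [e, orderOf_one] at hy'; exact hr.one_lt.ne hy'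
    have hk2 := Nat.le_of_dvd Nat.card_pos S.even_card_K
    have hpq : p ∣ 2 * Nat.card S.K - 1 := by rw [hf]; exact dvd_pow_self p (by omega)
    have hpk : ¬ p ∣ Nat.card S.K := fun h => by
      have h3 := Nat.dvd_sub (h.mul_left 2) hpq
      rw [show 2 * Nat.card S.K - (2 * Nat.card S.K - 1) = 1 by omega] at h3
      exact (Fact.out : p.Prime).ne_one (Nat.dvd_one.mp h3)
    have hpk1 : ¬ p ∣ Nat.card S.K - 1 := fun h => by
      have h3 := Nat.dvd_sub hpq (h.mul_left 2)
      rw [show 2 * Nat.card S.K - 1 - 2 * (Nat.card S.K - 1) = 1 by omega] at h3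
      exact (Fact.out : p.Prime).ne_one (Nat.dvd_one.mp h3)
    have hthree : ∀ M : Subgroup X, y ∈ M → 3 ≤ Nat.card M := fun M hM => by
      have h1 := Subgroup.orderOf_dvd_natCard M hM
      have h2 : Odd (Nat.card M) := hXodd.of_dvd_nat (Subgroup.card_subgroup_dvd_card M)
      have h3 := Nat.le_of_dvd Nat.card_pos h1
      have := hr.two_le
      obtain ⟨j, hj⟩ := h2
      omega
    have hinto : ∀ (A : Subgroup G), Nat.card (A.subgroupOf X) ∣ Nat.card A := fun A => by
      rw [← Subgroup.card_map_of_injective (Subgroup.subtype_injective X)]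
      exact Subgroup.card_dvd_of_le (by rw [Subgroup.subgroupOf_map_subtype]; exact inf_le_left)
    by_cases hyo : S.Out y
    · have hyi : Inverted (y : G) := by
        by_contra hyi
        obtain ⟨-, j, hj⟩ := (hchar y).mp ⟨hyo, hyi⟩
        rw [hy'] at hj
        rcases Nat.eq_zero_or_pos j with rfl | hj0
        · exact hr.ne_one (by rw [hj, pow_zero])
        · have hd : p ∣ r := hj ▸ dvd_pow_self p hj0.ne'
          exact hrp ((Nat.prime_dvd_prime_iff_eq Fact.out hr).mp hd).symm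
      have hmem : y ∈ (Subgroup.centralizer ({(y : G)} : Set G)).subgroupOf X :=
        Subgroup.mem_subgroupOf.mpr (Subgroup.mem_centralizer_singleton_iff.mpr rfl)
      refine ⟨_, hmem, hthree _ hmem,
        fun h => hpk1 ((h.trans (hinto _)).trans (by rw [hreal y hyo hyi])), ?_, ?_⟩
      · intro v hv w hw
        exact Subtype.ext (S.centralizer_comm hyo hyi (Subgroup.mem_subgroupOf.mp hv) (Subgroup.mem_subgroupOf.mp hw))
      · intro g w hw hw1 hgw
        rw [Subgroup.mem_subgroupOf] at hw hgw ⊢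
        push_cast at hgw
        exact S.mem_torus_of_odd hyo hyi (hreal y hyo hyi)
          (S.mem_normalizer_of_TI hyo hyi hw (fun e => hw1 (Subtype.ext e)) hgw) (hodd g g.2)
    · obtain ⟨c, hc⟩ : ∃ c : G, c * y * c⁻¹ ∈ S.K := by
        by_contra h
        push Not at h
        exact hyo ⟨hy1, h⟩
      have hmem : y ∈ (S.K.comap (MulAut.conj c).toMonoidHom).subgroupOf X := by
        rw [Subgroup.mem_subgroupOf, Subgroup.mem_comap]
        simpa using hc
      have hdK : Nat.card (S.K.comap (MulAut.conj c).toMonoidHom) ∣ Nat.card S.K := by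
        rw [← Subgroup.card_map_of_injective (K := S.K.comap (MulAut.conj c).toMonoidHom)
          (f := (MulAut.conj c).toMonoidHom) (MulEquiv.injective (MulAut.conj c))]
        exact Subgroup.card_dvd_of_le (Subgroup.map_comap_le _ _)
      refine ⟨_, hmem, hthree _ hmem, fun h => hpk ((h.trans (hinto _)).trans hdK), ?_, ?_⟩
      · intro v hv w hw
        rw [Subgroup.mem_subgroupOf, Subgroup.mem_comap] at hv hw
        have := S.hKab _ hv _ hw
        rw [← map_mul, ← map_mul] at this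
        exact Subtype.ext ((MulAut.conj c).injective this)
      · intro g w hw hw1 hgw
        rw [Subgroup.mem_subgroupOf, Subgroup.mem_comap] at hw hgw ⊢
        simp only [MulEquiv.coe_toMonoidHom, MulAut.conj_apply] at hw hgw ⊢
        push_cast at hgw
        refine S.mem_K_of_odd (S.hTI (c * g * c⁻¹) (c * w * c⁻¹) hw
          (fun e => hw1 (Subtype.ext (show (w : G) = 1 by simpa using e))) ?_) ?_
        · rw [show c * g * c⁻¹ * (c * w * c⁻¹) * (c * (g : G) * c⁻¹)⁻¹
              = c * ((g : G) * w * (g : G)⁻¹) * c⁻¹ by simp [mul_assoc]]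
          exact hgw
        · rw [orderOf_conj']; exact hodd g g.2
  -- a single Sylow subgroup in the normaliser
  have huniq := sylow_unique_of_local_tori (X := X) (p := p) htori
  obtain ⟨S₁⟩ : Nonempty (Sylow p X) := inferInstance
  obtain ⟨P₃, hP₃⟩ := (S₁.isPGroup'.map X.subtype).exists_le_sylow
  have hkey : ∀ Q : Sylow p G, I ≤ Q → (Q : Subgroup G) ⊓ X ≤ P₃ := by
    intro Q _ x hx
    have hpg : IsPGroup p ((Q : Subgroup G).subgroupOf X) :=
      IsPGroup.of_injective Q.isPGroup' ((X.subtype.comp ((Q : Subgroup G).subgroupOf X).subtype).codRestrict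
        (Q : Subgroup G) fun z => Subgroup.mem_subgroupOf.mp z.2) fun a b e =>
        Subtype.ext (Subtype.ext (congrArg (fun z : ↥(Q : Subgroup G) => (z : G)) e))
    obtain ⟨S₂, hS₂⟩ := hpg.exists_le_sylow
    rw [huniq S₂ S₁] at hS₂
    exact hP₃ ⟨⟨x, hx.2⟩, hS₂ (Subgroup.mem_subgroupOf.mpr hx.1), rfl⟩
  have hgrow : ∀ Q : Sylow p G, I < (Q : Subgroup G) → I < (Q : Subgroup G) ⊓ X := by
    intro Q hQ
    haveI : Group.IsNilpotent (Q : Subgroup G) := Q.isPGroup'.isNilpotent
    refine lt_of_le_of_ne (le_inf hQ.le Subgroup.le_normalizer) fun e => ?_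
    have hlt : I.subgroupOf (Q : Subgroup G) < ⊤ := by
      rw [lt_top_iff_ne_top, Ne, Subgroup.subgroupOf_eq_top]
      exact not_le_of_gt hQ
    have hnc := Group.normalizerCondition_of_isNilpotent (I.subgroupOf (Q : Subgroup G)) hlt
    obtain ⟨z, hz, hzI⟩ := SetLike.exists_of_lt hnc
    refine hzI (Subgroup.mem_subgroupOf.mpr ?_)
    rw [e]
    refine ⟨z.2, Subgroup.mem_normalizer_iff.mpr fun w => ?_⟩
    by_cases hw : w ∈ (Q : Subgroup G)
    · have := Subgroup.mem_normalizer_iff.mp hz ⟨w, hw⟩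
      simpa [Subgroup.mem_subgroupOf] using this
    · refine iff_of_false (fun h => hw (hQ.le h)) fun h => hw ?_
      have := (Q : Subgroup G).mul_mem ((Q : Subgroup G).mul_mem ((Q : Subgroup G).inv_mem z.2) (hQ.le h)) z.2
      simpa [mul_assoc] using this
  have hlt1 : I < (P₁ : Subgroup G) := lt_of_le_of_ne inf_le_left fun e => h12 (Sylow.ext (by
    refine Subgroup.eq_of_le_of_card_ge (inf_eq_left.mp e) ?_
    rw [P₁.card_eq_multiplicity, P₂.card_eq_multiplicity]))
  have hlt2 : I < (P₂ : Subgroup G) := lt_of_le_of_ne inf_le_right fun e => h12 (Sylow.ext (by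
    refine (Subgroup.eq_of_le_of_card_ge (inf_eq_right.mp e) ?_).symm
    rw [P₁.card_eq_multiplicity, P₂.card_eq_multiplicity]))
  have heq : ∀ Q : Sylow p G, I < (Q : Subgroup G) → Q = P₃ := by
    intro Q hQ
    by_contra hne'
    have h1 := hmax (Q, P₃) (by simp [hPairs, hne'])
    have h2 : I < (Q : Subgroup G) ⊓ P₃ :=
      lt_of_lt_of_le (hgrow Q hQ) (le_inf inf_le_left (hkey Q hQ.le))
    exact absurd (Subgroup.eq_of_le_of_card_ge h2.le h1) h2.ne
  exact h12 ((heq P₁ hlt1).trans (heq P₂ hlt2).symm)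

theorem exists_minus (hn : (Subgroup.centralizer ({S.t} : Set G)).index
      = (2 * Nat.card S.K - 1) * (Nat.card S.K - 1))
    (hreal : ∀ g, S.Out g → Inverted g →
      Nat.card (Subgroup.centralizer ({g} : Set G)) = Nat.card S.K - 1) :
    ∃ Q D : Subgroup G, 2 * Nat.card G = Nat.card Q * (Nat.card Q + 1) * (Nat.card Q - 1) ∧
      (∀ x ∈ Q, x ≠ 1 → Subgroup.centralizer ({x} : Set G) = Q) ∧
      IsMulCommutative D ∧ 2 * Nat.card D + 1 = Nat.card Q ∧ Q ⊓ D = ⊥ ∧
      Subgroup.normalizer (Q : Set G) = Q ⊔ D ∧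
      ∀ X : Subgroup G, X ≤ D → X ≠ ⊥ →
        Subgroup.normalizer (X : Set G) = Subgroup.normalizer (D : Set G) ∧
        ∃ u : G, orderOf u = 2 ∧ u ∉ D ∧ (∀ d ∈ D, u * d * u⁻¹ = d⁻¹) ∧
          Subgroup.normalizer (D : Set G) = D ⊔ Subgroup.zpowers u := by
  classical
  obtain ⟨p, f, hp, hf, hf1, hsyl, hchar⟩ := S.minus_prime hn hreal
  haveI : Fact p.Prime := ⟨hp⟩
  have hti := S.minus_ti hn hreal hf hf1 hchar
  set k := Nat.card S.K with hk
  obtain ⟨k', hk'⟩ : ∃ k', k = k' + 2 :=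
    ⟨k - 2, by have := Nat.le_of_dvd Nat.card_pos S.even_card_K; omega⟩
  have hG : Nat.card G = 2 * k * (2 * k - 1) * (k - 1) := by rw [S.card_eq, hn, ← hk]; ring
  obtain ⟨P⟩ : Nonempty (Sylow p G) := inferInstance
  -- centralisers
  have hcent : ∀ Q : Sylow p G, ∀ x ∈ (Q : Subgroup G), x ≠ 1 →
      Subgroup.centralizer ({x} : Set G) = Q := by
    intro Q x hx hx1
    obtain ⟨j, hj⟩ := IsPGroup.iff_orderOf.mp Q.isPGroup' ⟨x, hx⟩
    rw [← Subgroup.orderOf_coe] at hj
    obtain ⟨hxo, hxi⟩ := (hchar x).mpr ⟨hx1, j, hj⟩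
    have hc := (S.minus_classes hn hreal hxo hxi).1
    rw [← hk, hf] at hc
    obtain ⟨Q', hQ'⟩ := (IsPGroup.of_card hc).exists_le_sylow
    have e : (Q' : Subgroup G) = Subgroup.centralizer ({x} : Set G) :=
      (Subgroup.eq_of_le_of_card_ge hQ' (by rw [hsyl, hc, hf])).symm
    by_cases hQQ : Q = Q'
    · rw [← e, hQQ]
    · exfalso
      have hxQ' : x ∈ (Q' : Subgroup G) := by
        rw [e]; exact Subgroup.mem_centralizer_singleton_iff.mpr rfl
      have : x ∈ (⊥ : Subgroup G) := hti Q Q' hQQ ▸ Subgroup.mem_inf.mpr ⟨hx, hxQ'⟩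
      exact hx1 (Subgroup.mem_bot.mp this)
  have hPcard := hsyl P
  -- the normaliser
  set N := Subgroup.normalizer ((P : Subgroup G) : Set G) with hN
  have hTIP : ∀ g a, a ∈ (P : Subgroup G) → a ≠ 1 → g * a * g⁻¹ ∈ (P : Subgroup G) → g ∈ N := by
    intro g a ha ha1 hga
    have e1 := hcent P a ha ha1
    have e2 := hcent P _ hga fun e => ha1 (by simpa using e)
    rw [hN, Subgroup.mem_normalizer_iff]
    intro w
    nth_rw 1 [← e1]
    nth_rw 1 [← e2]
    rw [Subgroup.mem_centralizer_singleton_iff, Subgroup.mem_centralizer_singleton_iff]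
    rw [show g * w * g⁻¹ * (g * a * g⁻¹) = g * (w * a) * g⁻¹ by group,
      show g * a * g⁻¹ * (g * w * g⁻¹) = g * (a * w) * g⁻¹ by group, mul_left_inj, mul_right_inj]
  have hNcard : Nat.card N = (2 * k - 1) * (k - 1) := by
    have hcu := card_conjUnion (P : Subgroup G) N (normalizer_acts _) hTIP
    have hp1 : (puncture (P : Subgroup G)).card = 2 * k - 1 - 1 := by
      have := card_puncture (P : Subgroup G)
      rw [hsyl P] at this
      omega
    have hcard : (conjUnion (P : Subgroup G)).card = 4 * k * (k - 1) := by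
      refine le_antisymm ((S.minus_counts hn hreal).1 _ fun x hx => ?_) ?_
      · obtain ⟨hx1, c, hc⟩ := mem_conjUnion.mp hx
        obtain ⟨j, hj⟩ := IsPGroup.iff_orderOf.mp P.isPGroup' ⟨_, hc⟩
        rw [← Subgroup.orderOf_coe, orderOf_conj'] at hj
        exact (hchar x).mpr ⟨hx1, j, hj⟩
      · obtain ⟨g, hg, hi⟩ := (S.minus_counts hn hreal).2.1
        obtain ⟨hq, -⟩ := S.minus_classes hn hreal hg hi
        have hsub : (Finset.univ.filter (IsConj g)) ∪ Finset.univ.filter (IsConj g⁻¹) ⊆ conjUnion (P : Subgroup G) := by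
          intro x hx
          have hxp : x ≠ 1 ∧ ∃ j, orderOf x = p ^ j := by
            obtain ⟨hg1, j, hj⟩ := (hchar g).mp ⟨hg, hi⟩
            rcases Finset.mem_union.mp hx with h | h <;>
              obtain ⟨c, rfl⟩ := isConj_iff.mp (Finset.mem_filter.mp h).2
            · exact ⟨fun e => hg1 (by simpa using e), j, by rw [orderOf_conj', hj]⟩
            · exact ⟨fun e => hg1 (by simpa using e), j, by rw [orderOf_conj', orderOf_inv, hj]⟩
          obtain ⟨hx1, j, hj⟩ := hxp
          obtain ⟨Q, hQ⟩ := (IsPGroup.of_card (p := p) (n := j) (G := Subgroup.zpowers x)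
            (by rw [Nat.card_zpowers, hj])).exists_le_sylow
          obtain ⟨w, hw⟩ := MulAction.exists_smul_eq G Q P
          refine mem_conjUnion.mpr ⟨hx1, w, ?_⟩
          rw [← hw, Sylow.coe_subgroup_smul]
          exact ⟨x, hQ (Subgroup.mem_zpowers _), rfl⟩
        refine le_trans ?_ (Finset.card_le_card hsub)
        rw [Finset.card_union_of_disjoint]
        · have hcls : ∀ y : G, (Finset.univ.filter (IsConj y)).card
              * Nat.card (Subgroup.centralizer ({y} : Set G)) = Nat.card G := fun y => by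
            rw [← Fintype.card_subtype, ← Nat.card_eq_fintype_card, Chars.card_conjClass_eq_index, mul_comm,
              Subgroup.card_mul_index]
          have hi' : ¬ Inverted g⁻¹ := fun h => hi (inverted_inv_iff.mp h)
          have e1 := hcls g
          have e2 := hcls g⁻¹
          rw [hq, hG] at e1
          rw [(S.minus_classes hn hreal (S.out_inv hg) hi').1, hG] at e2
          have h0 : 0 < 2 * k - 1 := by omega
          have f1 : (Finset.univ.filter (IsConj g)).card = 2 * k * (k - 1) := by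
            apply Nat.eq_of_mul_eq_mul_right h0
            rw [e1]; ring
          have f2 : (Finset.univ.filter (IsConj g⁻¹)).card = 2 * k * (k - 1) := by
            apply Nat.eq_of_mul_eq_mul_right h0
            rw [e2]; ring
          rw [f1, f2]
          exact le_of_eq (by ring)
        · rw [Finset.disjoint_left]
          intro x h1 h2
          exact hi (S.inverted_of_isConj_inv hg
            ((Finset.mem_filter.mp h1).2.trans (Finset.mem_filter.mp h2).2.symm))
    rw [hcard, hp1, hG] at hcu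
    rw [show 2 * k - 1 - 1 = 2 * (k - 1) by omega] at hcu
    apply Nat.eq_of_mul_eq_mul_right (show 0 < 4 * k * (k - 1) from Nat.mul_pos (by omega) (by omega))
    rw [hcu]; ring
  -- another Sylow subgroup
  obtain ⟨P', hP'⟩ : ∃ P' : Sylow p G, P' ≠ P := by
    by_contra h
    push Not at h
    have : N = ⊤ := by
      rw [eq_top_iff]
      intro g _
      exact Sylow.smul_eq_iff_mem_normalizer.mp (h (g • P))
    have h' := hNcard
    rw [this, Subgroup.card_top, hG, show 2 * k * (2 * k - 1) * (k - 1) = (2 * k - 1) * (k - 1) * (2 * k) by ring] at h'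
    have := Nat.eq_of_mul_eq_mul_left (Nat.mul_pos (by omega) (by omega)) (h'.trans (mul_one _).symm)
    omega
  -- a Sylow subgroup is transitive on the others
  have hnum : Nat.card (Sylow p G) = 2 * k := by
    have h := Subgroup.card_mul_index N
    rw [hNcard, hG, ← show Nat.card (Sylow p G) = N.index from Sylow.card_eq_index_normalizer P] at h
    apply Nat.eq_of_mul_eq_mul_left (show 0 < (2 * k - 1) * (k - 1) from Nat.mul_pos (by omega) (by omega))
    rw [h]; ring
  have hfree : ∀ Q Q' : Sylow p G, Q ≠ Q' → ∀ w ∈ (Q : Subgroup G), w • Q' = Q' → w = 1 := by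
    intro Q Q' hQ w hw hwQ'
    obtain ⟨j, hj⟩ := IsPGroup.iff_orderOf.mp Q.isPGroup' ⟨w, hw⟩
    rw [← Subgroup.orderOf_coe] at hj
    have hwN := Sylow.smul_eq_iff_mem_normalizer.mp hwQ'
    have hwz : IsPGroup p (Subgroup.zpowers w) := IsPGroup.of_card (n := j) (by rw [Nat.card_zpowers, hj])
    have hsup : IsPGroup p ((Subgroup.zpowers w) ⊔ (Q' : Subgroup G) : Subgroup G) :=
      hwz.to_sup_of_normal_right' Q'.isPGroup' (Subgroup.zpowers_le.mpr hwN)
    have := Q'.is_maximal' hsup le_sup_right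
    have hwQ : w ∈ (Q' : Subgroup G) := this ▸ Subgroup.mem_sup_left (Subgroup.mem_zpowers w)
    have hb : w ∈ (⊥ : Subgroup G) := hti Q Q' hQ ▸ Subgroup.mem_inf.mpr ⟨hw, hwQ⟩
    exact Subgroup.mem_bot.mp hb
  have htrans : ∀ Q Q₁ Q₂ : Sylow p G, Q₁ ≠ Q → Q₂ ≠ Q → ∃ w ∈ (Q : Subgroup G), w • Q₁ = Q₂ := by
    intro Q Q₁ Q₂ h1 h2
    let orb : Finset (Sylow p G) := Finset.univ.image fun w : (Q : Subgroup G) => (w : G) • Q₁
    have hsub : orb ⊆ Finset.univ.erase Q := fun R hR => by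
      obtain ⟨w, -, rfl⟩ := Finset.mem_image.mp hR
      refine Finset.mem_erase.mpr ⟨fun e => h1 ?_, Finset.mem_univ _⟩
      have hwQ : (w : G) • Q = Q := Sylow.smul_eq_iff_mem_normalizer.mpr (Subgroup.le_normalizer w.2)
      exact (smul_left_cancel_iff (w : G)).mp (e.trans hwQ.symm)
    have hcard : orb.card = 2 * k - 1 := by
      rw [Finset.card_image_of_injective _ fun a b e => ?_, Finset.card_univ, ← Nat.card_eq_fintype_card,
        hsyl Q]
      have : (a : G)⁻¹ * b = 1 := by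
        refine hfree Q Q₁ h1.symm _ ((Q : Subgroup G).mul_mem ((Q : Subgroup G).inv_mem a.2) b.2) ?_
        rw [mul_smul, inv_smul_eq_iff]
        exact e.symm
      exact Subtype.ext (inv_mul_eq_one.mp this)
    have heq := Finset.eq_of_subset_of_card_le hsub (by
      rw [Finset.card_erase_of_mem (Finset.mem_univ _), Finset.card_univ, ← Nat.card_eq_fintype_card,
        hnum, hcard])
    have : Q₂ ∈ orb := by rw [heq]; exact Finset.mem_erase.mpr ⟨h2, Finset.mem_univ _⟩
    obtain ⟨w, -, hw⟩ := Finset.mem_image.mp this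
    exact ⟨w, w.2, hw⟩
  set D := N ⊓ Subgroup.normalizer ((P' : Subgroup G) : Set G) with hD
  have hPN : (P : Subgroup G) ≤ N := Subgroup.le_normalizer
  have hPD : (P : Subgroup G) ⊓ D = ⊥ := by
    rw [eq_bot_iff]
    rintro w ⟨hw, -, hw'⟩
    exact Subgroup.mem_bot.mpr (hfree P P' hP'.symm w hw (Sylow.smul_eq_iff_mem_normalizer.mpr hw'))
  have hdec : ∀ h ∈ N, ∃ w ∈ (P : Subgroup G), ∃ d ∈ D, h = w * d := by
    intro h hh
    have hne : h • P' ≠ P := fun e => hP' ((smul_left_cancel_iff h).mp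
      (e.trans (Sylow.smul_eq_iff_mem_normalizer.mpr hh).symm))
    obtain ⟨w, hw, hwe⟩ := htrans P P' (h • P') hP' hne
    refine ⟨w, hw, w⁻¹ * h, ⟨N.mul_mem (N.inv_mem (hPN hw)) hh, ?_⟩, by rw [mul_inv_cancel_left]⟩
    refine Sylow.smul_eq_iff_mem_normalizer.mp ?_
    rw [mul_smul, ← hwe, inv_smul_smul]
  have hDcard : Nat.card D = k - 1 := by
    have h : Nat.card N = Nat.card (P : Subgroup G) * Nat.card D := by
      rw [← Nat.card_prod]
      refine (Nat.card_congr (Equiv.ofBijective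
        (fun q : ↥(P : Subgroup G) × ↥D => (⟨(q.1 : G) * q.2, N.mul_mem (hPN q.1.2) q.2.2.1⟩ : N)) ⟨?_, ?_⟩)).symm
      · rintro ⟨a, e⟩ ⟨b, e'⟩ hh
        have hh' : (a : G) * e = b * e' := congrArg Subtype.val hh
        have h0 : (b : G)⁻¹ * a = e' * (e : G)⁻¹ := by
          rw [inv_mul_eq_iff_eq_mul, ← mul_assoc, ← hh', mul_inv_cancel_right]
        have h1 : (b : G)⁻¹ * a ∈ (⊥ : Subgroup G) := hPD ▸ Subgroup.mem_inf.mpr
          ⟨(P : Subgroup G).mul_mem ((P : Subgroup G).inv_mem b.2) a.2, h0 ▸ D.mul_mem e'.2 (D.inv_mem e.2)⟩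
        have hab : (a : G) = b := (inv_mul_eq_one.mp (Subgroup.mem_bot.mp h1)).symm
        rw [hab] at hh'
        exact Prod.ext (Subtype.ext hab) (Subtype.ext (mul_left_cancel hh'))
      · rintro ⟨h, hh⟩
        obtain ⟨w, hw, d, hd, rfl⟩ := hdec h hh
        exact ⟨(⟨w, hw⟩, ⟨d, hd⟩), rfl⟩
    rw [hNcard, hsyl P] at h
    exact (Nat.eq_of_mul_eq_mul_left (by omega) h).symm
  have hDodd : Odd (Nat.card D) := by
    rw [hDcard]
    obtain ⟨j, hj⟩ : 2 ∣ k := S.even_card_K
    exact ⟨j - 1, by omega⟩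
  -- the exchanging involution
  obtain ⟨g₁, hg₁⟩ := MulAction.exists_smul_eq G P P'
  have hne1 : g₁ • P' ≠ P' := fun e => hP' ((smul_left_cancel_iff g₁).mp (e.trans hg₁.symm))
  obtain ⟨w₁, hw₁, hw₁e⟩ := htrans P' (g₁ • P') P hne1 hP'.symm
  set h₀ := w₁ * g₁ with hh₀
  have h0P : h₀ • P = P' := by
    rw [hh₀, mul_smul, hg₁]
    exact Sylow.smul_eq_iff_mem_normalizer.mpr (Subgroup.le_normalizer hw₁)
  have h0P' : h₀ • P' = P := by rw [hh₀, mul_smul, hw₁e]
  have hsq : h₀ * h₀ ∈ D :=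
    ⟨Sylow.smul_eq_iff_mem_normalizer.mp (by rw [mul_smul, h0P, h0P']),
      Sylow.smul_eq_iff_mem_normalizer.mp (by rw [mul_smul, h0P', h0P])⟩
  set u := h₀ ^ Nat.card D with hu
  obtain ⟨j, hj⟩ := hDodd
  have huP : u • P = P' := by
    have hfix : ((h₀ * h₀) ^ j) • P = P := Sylow.smul_eq_iff_mem_normalizer.mpr (D.pow_mem hsq j).1
    rw [hu, hj, pow_succ', ← pow_two, ← pow_mul] at *
    rw [mul_smul, hfix, h0P]
  have huP' : u • P' = P := by
    have hfix : ((h₀ * h₀) ^ j) • P' = P' := Sylow.smul_eq_iff_mem_normalizer.mpr (D.pow_mem hsq j).2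
    rw [hu, hj, pow_succ', pow_mul, pow_two, mul_smul, hfix, h0P']
  have hu2 : orderOf u = 2 := by
    refine orderOf_eq_prime ?_ fun e => hP' ?_
    · rw [hu, ← pow_mul, mul_comm, pow_mul, pow_two]
      exact orderOf_dvd_iff_pow_eq_one.mp (Subgroup.orderOf_dvd_natCard _ hsq)
    · rw [← huP, e, one_smul]
  have hDout : ∀ d ∈ D, d ≠ 1 → d * u ≠ u * d := by
    intro d hd hd1 hcomm
    obtain ⟨c, hc⟩ := isConj_iff.mp (S.hconj u hu2)
    have hct : (c⁻¹ * d * c) * S.t = S.t * (c⁻¹ * d * c) := by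
      rw [← hc] at hcomm
      calc (c⁻¹ * d * c) * S.t = c⁻¹ * (d * (c * S.t * c⁻¹)) * c := by group
        _ = c⁻¹ * ((c * S.t * c⁻¹) * d) * c := by rw [hcomm]
        _ = S.t * (c⁻¹ * d * c) := by group
    have hdD : orderOf d ∣ k - 1 := hDcard ▸ Subgroup.orderOf_dvd_natCard _ hd
    have hoo : orderOf (c⁻¹ * d * c) = orderOf d := by
      rw [show c⁻¹ * d * c = c⁻¹ * d * c⁻¹⁻¹ by rw [inv_inv], orderOf_conj']
    have hK := S.mem_K_of_odd hct (by
      rw [hoo]; exact (show Odd (Nat.card D) from ⟨j, hj⟩).of_dvd_nat (hDcard ▸ hdD))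
    have hdk : orderOf d ∣ k := hoo ▸ Subgroup.orderOf_dvd_natCard _ hK
    have h1 := Nat.dvd_sub hdk hdD
    rw [show k - (k - 1) = 1 by omega] at h1
    exact hd1 (orderOf_eq_one_iff.mp (Nat.dvd_one.mp h1))
  have huD : ∀ d ∈ D, u * d * u⁻¹ ∈ D := by
    intro d hd
    have hu' : u⁻¹ = u := Involution.inv_eq_self (Involution.mul_self_eq_one hu2)
    have hdP : d • P = P := Sylow.smul_eq_iff_mem_normalizer.mpr hd.1
    have hdP' : d • P' = P' := Sylow.smul_eq_iff_mem_normalizer.mpr hd.2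
    exact ⟨Sylow.smul_eq_iff_mem_normalizer.mp (by rw [mul_smul, mul_smul, hu', huP, hdP', huP']),
      Sylow.smul_eq_iff_mem_normalizer.mp (by rw [mul_smul, mul_smul, hu', huP', hdP, huP])⟩
  have hinv : ∀ d ∈ D, u * d * u⁻¹ = d⁻¹ := fun d hd =>
    CharCount.inverts_of_fixedPointFree (Involution.mul_self_eq_one hu2) huD
      (fun a ha hfx => by
        by_contra ha1
        exact hDout a ha ha1 (mul_inv_eq_iff_eq_mul.mp hfx).symm) hd
  have hDab : ∀ a ∈ D, ∀ b ∈ D, a * b = b * a := by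
    intro a ha b hb
    have h := hinv _ (D.mul_mem ha hb)
    rw [show u * (a * b) * u⁻¹ = (u * a * u⁻¹) * (u * b * u⁻¹) by group, hinv a ha, hinv b hb, mul_inv_rev] at h
    simpa using (congrArg (·⁻¹) h).symm
  refine ⟨P, D, ?_, hcent P, ⟨⟨fun a b => Subtype.ext (hDab a a.2 b b.2)⟩⟩, ?_, hPD, ?_, ?_⟩
  · rw [hsyl P, hG, hk', show k' + 2 - 1 = k' + 1 by omega, show 2 * (k' + 2) - 1 = 2 * k' + 3 by omega,
      show 2 * k' + 3 - 1 = 2 * k' + 2 by omega]
    ring
  · rw [hDcard, hsyl P]; omega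
  · refine le_antisymm (fun h hh => ?_) (sup_le hPN inf_le_left)
    obtain ⟨w, hw, d, hd, rfl⟩ := hdec h hh
    exact Subgroup.mul_mem_sup hw hd
  intro X hX hX1
  haveI := (Subgroup.nontrivial_iff_ne_bot X).mpr hX1
  obtain ⟨⟨d, hd⟩, hd1'⟩ := exists_ne (1 : X)
  have hd1 : d ≠ 1 := fun e => hd1' (Subtype.ext e)
  have hdout : S.Out d := by
    refine ⟨hd1, fun c hc => ?_⟩
    have h1 : orderOf d ∣ k := orderOf_conj' c d ▸ Subgroup.orderOf_dvd_natCard _ hc
    have h2 := Nat.dvd_sub h1 (hDcard ▸ Subgroup.orderOf_dvd_natCard _ (hX hd))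
    rw [show k - (k - 1) = 1 by omega] at h2
    exact hd1 (orderOf_eq_one_iff.mp (Nat.dvd_one.mp h2))
  have hdi : Inverted d := ⟨u, hu2, hinv d (hX hd)⟩
  have hAD : D = Subgroup.centralizer ({d} : Set G) := by
    refine Subgroup.eq_of_le_of_card_ge
      (fun a ha => Subgroup.mem_centralizer_singleton_iff.mpr (hDab a ha d (hX hd))) ?_
    rw [hDcard, hreal d hdout hdi]
  obtain ⟨E, huE, -, -, hsup, -, hEd, hEk, -⟩ := S.torus_normalizer hdout hu2 (hinv d (hX hd))
  have hE : E = Subgroup.zpowers u := by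
    refine (Subgroup.eq_of_le_of_card_ge (Subgroup.zpowers_le.mpr huE) ?_).symm
    rw [Nat.card_zpowers, hu2]
    refine Nat.le_of_dvd two_pos ?_
    rw [hreal d hdout hdi] at hEd
    have h := Nat.dvd_sub hEk hEd
    rwa [← hk, show k - (k - 1 - 1) = 2 by omega] at h
  rw [← hAD, hE] at hsup
  refine ⟨le_antisymm (fun h hh => ?_) ?_, u, hu2, ?_, hinv, hsup⟩
  · rw [hAD]
    refine S.mem_normalizer_of_TI hdout hdi (Subgroup.mem_centralizer_singleton_iff.mpr rfl) hd1 ?_
    rw [← hAD]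
    exact hX ((Subgroup.mem_normalizer_iff.mp hh d).mp hd)
  · rw [hsup, sup_le_iff, Subgroup.zpowers_le]
    constructor
    · intro a ha
      rw [Subgroup.mem_normalizer_iff]
      intro y
      constructor
      · intro hy
        rw [hDab a ha y (hX hy), mul_inv_cancel_right]; exact hy
      · intro hy
        have e := hDab a⁻¹ (D.inv_mem ha) _ (hX hy)
        have : y = a * y * a⁻¹ := by
          calc y = a⁻¹ * (a * y * a⁻¹) * a := by group
            _ = (a * y * a⁻¹) * a⁻¹ * a := by rw [e]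
            _ = a * y * a⁻¹ := by group
        rw [this]; exact hy
    · rw [Subgroup.mem_normalizer_iff]
      intro y
      constructor
      · intro hy
        rw [hinv y (hX hy)]; exact X.inv_mem hy
      · intro hy
        have e := hinv _ (hX hy)
        have huu := Involution.mul_self_eq_one hu2
        rw [Involution.inv_eq_self huu] at e hy
        rw [show u * (u * y * u) * u = (u * u) * y * (u * u) by group, huu, one_mul, mul_one] at e
        rw [e]; exact X.inv_mem hy
  · intro h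
    exact hDout u h (Involution.ne_one hu2) rfl

end Setup

end Cfsg.Agent.Lib.BSW
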