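import Cfsg.Agent.Lib.BSW.Plus
import Cfsg.Agent.Lib.BSW.MinusStructure

/-!
The theorem of Brauer, Suzuki and Wall in abstract form.
-/

set_option autoImplicit false

namespace Cfsg.Agent.Lib.BSW

open Cfsg.Agent.Lib

universe u

variable {G : Type u} [Group G] [Finite G]

/-- Every configuration satisfies the conclusion of the theorem. -/
theorem Setup.exists_structure (S : Setup G) :
    ∃ Q D : Subgroup G, 2 * Nat.card G = Nat.card Q * (Nat.card Q + 1) * (Nat.card Q - 1) ∧
      (∀ x ∈ Q, x ≠ 1 → Subgroup.centralizer ({x} : Set G) = Q) ∧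
      IsMulCommutative D ∧ 2 * Nat.card D + 1 = Nat.card Q ∧ Q ⊓ D = ⊥ ∧
      Subgroup.normalizer (Q : Set G) = Q ⊔ D ∧
      ∀ X : Subgroup G, X ≤ D → X ≠ ⊥ →
        Subgroup.normalizer (X : Set G) = Subgroup.normalizer (D : Set G) ∧
        ∃ u : G, orderOf u = 2 ∧ u ∉ D ∧ (∀ d ∈ D, u * d * u⁻¹ = d⁻¹) ∧
          Subgroup.normalizer (D : Set G) = D ⊔ Subgroup.zpowers u := by
  cases nonempty_fintype G
  rcases S.order_all with ⟨hn, h⟩ | ⟨hn, h⟩
  · exact S.exists_plus hn h
  · exact S.exists_minus hn h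

/-- The order formula. -/
theorem Setup.card_group (S : Setup G) :
    Nat.card G = 2 * Nat.card S.K * ((2 * Nat.card S.K + 1) * (Nat.card S.K + 1)) ∨
    Nat.card G = 2 * Nat.card S.K * ((2 * Nat.card S.K - 1) * (Nat.card S.K - 1)) := by
  cases nonempty_fintype G
  rcases S.order_all with ⟨hn, -⟩ | ⟨hn, -⟩
  · left; rw [S.card_eq, hn]
  · right; rw [S.card_eq, hn]

/-- The configuration from the hypotheses of the theorem. -/
theorem exists_setup (t : G) (ht : orderOf t = 2)
    (K : Subgroup G) (hKab : IsMulCommutative K) (hKH : K ≤ Subgroup.centralizer ({t} : Set G)) (htK : t ∈ K)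
    (s : G) (hs : orderOf s = 2) (hsH : s ∈ Subgroup.centralizer ({t} : Set G)) (hsK : s ∉ K)
    (hH : K ⊔ Subgroup.zpowers s = Subgroup.centralizer ({t} : Set G))
    (hCK : K ⊓ Subgroup.centralizer ({s} : Set G) = Subgroup.zpowers t)
    (hinv : ∀ x ∈ K, s * x * s⁻¹ = x⁻¹)
    (hTI : ∀ g : G, g ∉ Subgroup.centralizer ({t} : Set G) →
      K ⊓ K.map (MulAut.conj g).toMonoidHom = ⊥)
    (hconj : ∀ x y : G, orderOf x = 2 → orderOf y = 2 → IsConj x y) :
    ∃ S : Setup G, S.K = K ∧ S.t = t := by
  have hss := Involution.mul_self_eq_one hs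
  have hsinv := Involution.inv_eq_self hss
  have htt := Involution.mul_self_eq_one ht
  refine ⟨⟨t, K, s, ht, fun a ha b hb => congrArg Subtype.val (hKab.is_comm.comm ⟨a, ha⟩ ⟨b, hb⟩), htK,
    hs, Subgroup.mem_centralizer_singleton_iff.mp hsH, hsK, fun x hx => ?_, hinv, fun x hx hx2 => ?_,
    fun g x hx hx1 hgx => ?_, fun x hx => hconj t x ht hx⟩, rfl, rfl⟩
  · have hmem : x ∈ K ⊔ Subgroup.zpowers s := hH ▸ Subgroup.mem_centralizer_singleton_iff.mpr hx
    let M : Subgroup G :=
      { carrier := {x | x ∈ K ∨ s * x ∈ K}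
        one_mem' := Or.inl K.one_mem
        mul_mem' := by
          rintro a b (ha | ha) (hb | hb)
          · exact Or.inl (K.mul_mem ha hb)
          · refine Or.inr ?_
            have : s * (a * b) = (s * a * s⁻¹) * (s * b) := by group
            rw [this, hinv a ha]
            exact K.mul_mem (K.inv_mem ha) hb
          · refine Or.inr ?_
            rw [← mul_assoc]
            exact K.mul_mem ha hb
          · refine Or.inl ?_
            have h := hinv _ ha
            rw [show s * (s * a) * s⁻¹ = (s * s) * (a * s⁻¹) by group, hss, one_mul, hsinv] at h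
            have : a * b = a * s * (s * b) := by
              rw [mul_assoc, ← mul_assoc s s, hss, one_mul]
            rw [this, h]
            exact K.mul_mem (K.inv_mem ha) hb
        inv_mem' := by
          rintro a (ha | ha)
          · exact Or.inl (K.inv_mem ha)
          · refine Or.inr ?_
            have h := hinv _ (K.inv_mem ha)
            rw [inv_inv, mul_inv_rev, hsinv] at h
            have : s * a⁻¹ = s * a := by
              rw [← h]; simp [mul_assoc, hss]
            rw [this]; exact ha }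
    exact (sup_le (fun y hy => Or.inl hy) (Subgroup.zpowers_le.mpr (Or.inr (by rw [hss]; exact K.one_mem))) :
      K ⊔ Subgroup.zpowers s ≤ M) hmem
  · have hxs : x ∈ K ⊓ Subgroup.centralizer ({s} : Set G) := by
      refine ⟨hx, Subgroup.mem_centralizer_singleton_iff.mpr ?_⟩
      have h := hinv x hx
      rw [Involution.inv_eq_self hx2, mul_inv_eq_iff_eq_mul] at h
      exact h.symm
    rw [hCK, Subgroup.mem_zpowers_iff] at hxs
    obtain ⟨i, rfl⟩ := hxs
    rcases Int.even_or_odd i with ⟨j, rfl⟩ | ⟨j, rfl⟩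
    · left; rw [← two_mul, zpow_mul, zpow_two, htt, one_zpow]
    · right
      rw [zpow_add, zpow_one, zpow_mul, zpow_two, htt, one_zpow, one_mul]
  · by_contra hg
    have hg' : g ∉ Subgroup.centralizer ({t} : Set G) :=
      fun h => hg (Subgroup.mem_centralizer_singleton_iff.mp h)
    have : g * x * g⁻¹ ∈ (⊥ : Subgroup G) := hTI g hg' ▸ Subgroup.mem_inf.mpr
      ⟨hgx, x, hx, rfl⟩
    exact hx1 (by simpa using Subgroup.mem_bot.mp this)

end Cfsg.Agent.Lib.BSW
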