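import Mathlib
import Cfsg.Prelude.Def_Solvable
import Cfsg.Prelude.Def_Involutions
import Cfsg.Agent.Lib.BSW.Main
import Cfsg.Agent.Lib.DihedralTransfer.Basic
import Cfsg.Agent.Lib.Involution.ThompsonTransfer
import Cfsg.Agent.Lib.Transfer.Criteria
import Cfsg.Agent.Lib.PSolvable.Core

/-!
The configuration of Brauer, Suzuki and Wall inside a simple group with dihedral Sylow 2-subgroups
whose involution centraliser has an abelian core with trivial intersections.
-/

set_option autoImplicit false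

namespace Cfsg.Agent.Lib.BSW

open Cfsg.Agent.Lib

universe u

variable {G : Type u} [Group G] [Finite G]

/-- A cyclic subgroup has at most one involution. -/
theorem eq_of_involutions_cyclic {R : Subgroup G} (hR : IsCyclic R) {a b : G} (ha : a ∈ R)
    (hb : b ∈ R) (ha2 : orderOf a = 2) (hb2 : b * b = 1) : b = 1 ∨ b = a := by
  classical
  by_contra h
  push Not at h
  haveI := hR
  haveI : Fintype R := Fintype.ofFinite R
  have hc := IsCyclic.card_pow_eq_one_le (α := R) (n := 2) (by norm_num)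
  have ha1 : a ≠ 1 := fun e => by rw [e, orderOf_one] at ha2; omega
  have haa : a * a = 1 := by rw [← pow_two, ← ha2, pow_orderOf_eq_one]
  have hsub : ({1, ⟨a, ha⟩, ⟨b, hb⟩} : Finset R) ⊆ ({x : R | x ^ 2 = 1} : Finset R) := by
    intro z hz
    simp only [Finset.mem_insert, Finset.mem_singleton] at hz
    simp only [Finset.mem_filter, Finset.mem_univ, true_and, pow_two]
    rcases hz with rfl | rfl | rfl
    · simp
    · exact Subtype.ext haa
    · exact Subtype.ext hb2
  have h3 : ({1, ⟨a, ha⟩, ⟨b, hb⟩} : Finset R).card = 3 := Finset.card_eq_three.mpr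
    ⟨_, _, _, fun e => ha1 (congrArg Subtype.val e).symm,
      fun e => h.1 (congrArg Subtype.val e).symm, fun e => h.2 (congrArg Subtype.val e).symm, rfl⟩
  have := Finset.card_le_card hsub
  omega

/-- A dihedral group with a central involution has a cyclic subgroup of index two containing it. -/
theorem exists_cyclic_index_two {S : Subgroup G} {n : ℕ} (hn : 2 ≤ n) (e : S ≃* DihedralGroup n)
    {t : G} (ht : orderOf t = 2) (htS : t ∈ S) (htZ : ∀ s ∈ S, s * t = t * s) :
    ∃ R : Subgroup G, R ≤ S ∧ IsCyclic R ∧ R.relIndex S = 2 ∧ t ∈ R := by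
  haveI : NeZero n := ⟨by omega⟩
  have hcardS : Nat.card S = 2 * n := by
    rw [Nat.card_congr e.toEquiv, DihedralGroup.nat_card]
  have hrel : ∀ r : S, orderOf r = n → (Subgroup.zpowers (r : G)).relIndex S = 2 := by
    intro r hr
    have h : Nat.card (Subgroup.zpowers (r : G)) * (Subgroup.zpowers (r : G)).relIndex S = Nat.card S := by
      rw [← Subgroup.relIndex_bot_left (Subgroup.zpowers (r : G)), ← Subgroup.relIndex_bot_left S]
      exact Subgroup.relIndex_mul_relIndex ⊥ _ S bot_le (Subgroup.zpowers_le.mpr r.2)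
    rw [Nat.card_zpowers, Subgroup.orderOf_coe, hr, hcardS] at h
    exact Nat.eq_of_mul_eq_mul_left (show 0 < n by omega) (h.trans (mul_comm 2 n))
  have hrord : orderOf (e.symm (DihedralGroup.r 1)) = n := by
    rw [MulEquiv.orderOf_eq, DihedralGroup.orderOf_r_one]
  rcases het : e ⟨t, htS⟩ with i | i
  · refine ⟨Subgroup.zpowers (e.symm (DihedralGroup.r 1) : G), Subgroup.zpowers_le.mpr (SetLike.coe_mem _),
      inferInstance, hrel _ hrord, ?_⟩
    have h1 : DihedralGroup.r i = DihedralGroup.r 1 ^ i.val := by simp [DihedralGroup.r_one_pow]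
    rw [h1] at het
    have h2 : (⟨t, htS⟩ : S) = e.symm (DihedralGroup.r 1) ^ i.val := by
      rw [← map_pow, ← het, e.symm_apply_apply]
    rw [show t = ((e.symm (DihedralGroup.r 1) : S) : G) ^ i.val from congrArg Subtype.val h2]
    exact pow_mem (Subgroup.mem_zpowers _) _
  · have hn2 : n = 2 := by
      have h1 := congrArg Subtype.val (show (⟨t, htS⟩ : S) = ⟨t, htS⟩ from rfl)
      have hc : (⟨t, htS⟩ : S) * e.symm (DihedralGroup.r 1) = e.symm (DihedralGroup.r 1) * ⟨t, htS⟩ :=
        Subtype.ext (htZ _ (SetLike.coe_mem _)).symm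
      have h2 := congrArg e hc
      rw [map_mul, map_mul, het, e.apply_symm_apply, DihedralGroup.sr_mul_r, DihedralGroup.r_mul_sr] at h2
      have h3 : i + 1 = i - 1 := DihedralGroup.sr.inj h2
      have h4 : ((2 : ℕ) : ZMod n) = 0 := by
        have h5 : i + 1 - (i - 1) = 0 := sub_eq_zero.mpr h3
        rw [Nat.cast_ofNat, ← h5]; ring
      exact le_antisymm (Nat.le_of_dvd two_pos ((ZMod.natCast_eq_zero_iff 2 n).mp h4)) hn
    exact ⟨Subgroup.zpowers t, Subgroup.zpowers_le.mpr htS, inferInstance,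
      hrel ⟨t, htS⟩ (by rw [← Subgroup.orderOf_coe, ht, hn2]), Subgroup.mem_zpowers t⟩

/-- An odd-order element centralising the central involution centralises every subgroup of a
dihedral Sylow 2-subgroup that it normalises. -/
theorem centralises_of_odd {S R : Subgroup G} {n : ℕ} (hn : 2 ≤ n) (e : S ≃* DihedralGroup n)
    (hSp : IsPGroup 2 S) (hRS : R ≤ S) (hR : IsCyclic R) (hRi : R.relIndex S = 2) {t : G}
    (ht : orderOf t = 2) (htR : t ∈ R) (htZ : ∀ s ∈ S, s * t = t * s) {U : Subgroup G} (hU : U ≤ S)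
    {g : G} (hgt : g * t = t * g) (hg : ∀ x, x ∈ U ↔ g * x * g⁻¹ ∈ U)
    (hodd : Odd (orderOf g)) : ∀ x ∈ U, g * x = x * g := by
  haveI : Fact (Nat.Prime 2) := ⟨Nat.prime_two⟩
  haveI := hR
  set U' := U ⊔ Subgroup.zpowers t with hU'
  have hU'S : U' ≤ S := sup_le hU (Subgroup.zpowers_le.mpr (hRS htR))
  set V := U' ⊓ R with hV
  have htV : t ∈ V := Subgroup.mem_inf.mpr
    ⟨Subgroup.mem_sup_right (Subgroup.mem_zpowers t), htR⟩
  have hgU' : ∀ x ∈ U', g * x * g⁻¹ ∈ U' := by
    intro x hx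
    have : U'.map (MulAut.conj g).toMonoidHom ≤ U' := by
      rw [hU', Subgroup.map_sup]
      refine sup_le_sup ?_ ?_
      · rintro _ ⟨y, hy, rfl⟩; exact (hg y).mp hy
      · rw [MonoidHom.map_zpowers, Subgroup.zpowers_le]
        simp only [MulEquiv.coe_toMonoidHom, MulAut.conj_apply, hgt, mul_inv_cancel_right]
        exact Subgroup.mem_zpowers t
    exact this ⟨x, hx, rfl⟩
  have hinvo : ∀ d ∈ S, d ∉ R → orderOf d = 2 := fun d hd hdR =>
    DihedralTransfer.dihedral_involution hn e hRS hR hRi hd hdR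
  -- conjugation by `g` preserves `V`
  have hgV : ∀ x ∈ V, g * x * g⁻¹ ∈ V := by
    intro x hx
    obtain ⟨hxU, hxR⟩ := Subgroup.mem_inf.mp hx
    refine Subgroup.mem_inf.mpr ⟨hgU' x hxU, ?_⟩
    by_contra hnR
    have h2 := hinvo _ (hU'S (hgU' x hxU)) hnR
    rw [← MulAut.conj_apply, MulEquiv.orderOf_eq] at h2
    rcases eq_of_involutions_cyclic hR htR hxR ht (by rw [← pow_two, ← h2, pow_orderOf_eq_one]) with h | h
    · rw [h, orderOf_one] at h2; omega
    · rw [h, hgt, mul_inv_cancel_right] at hnR; exact hnR htR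
  haveI hVc : IsCyclic V := isCyclic_of_injective (Subgroup.inclusion (inf_le_right : V ≤ R))
    (Subgroup.inclusion_injective _)
  let N := Subgroup.normalizer (V : Set G)
  have hgN : g ∈ N := by
    rw [Subgroup.mem_normalizer_iff]
    refine fun x => ⟨fun hx => hgV x hx, fun hx => ?_⟩
    have hmap : V.map (MulAut.conj g).toMonoidHom = V := by
      refine Subgroup.eq_of_le_of_card_ge (by rintro _ ⟨y, hy, rfl⟩; exact hgV y hy) ?_
      rw [Subgroup.card_map_of_injective (MulAut.conj g).injective]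
    rw [← hmap] at hx
    obtain ⟨y, hy, hyx⟩ := hx
    rwa [← (MulAut.conj g).injective hyx]
  -- the automorphism group of a cyclic 2-group is a 2-group
  have hVcen : ∀ x ∈ V, g * x = x * g := by
    intro x hx
    let φ : N →* MulAut V := V.normalizerMonoidHom
    have hφ : φ ⟨g, hgN⟩ = 1 := by
      obtain ⟨k, hk⟩ := IsPGroup.iff_card.mp (hSp.to_le ((inf_le_left : V ≤ U').trans hU'S))
      have hd : orderOf (φ ⟨g, hgN⟩) ∣ Nat.totient (2 ^ k) := by
        rw [← hk, ← IsCyclic.card_mulAut]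
        exact orderOf_dvd_natCard _
      have hd' : orderOf (φ ⟨g, hgN⟩) ∣ orderOf g := by
        rw [← Subgroup.orderOf_mk g hgN]; exact orderOf_map_dvd φ _
      rcases Nat.eq_zero_or_pos k with rfl | hk0
      · rw [pow_zero, Nat.totient_one, Nat.dvd_one, orderOf_eq_one_iff] at hd; exact hd
      rw [Nat.totient_prime_pow Nat.prime_two hk0, show (2 - 1 : ℕ) = 1 from rfl, mul_one] at hd
      rw [← orderOf_eq_one_iff]
      exact Nat.eq_one_of_dvd_coprimes (Nat.Coprime.pow_left (k - 1) (Nat.prime_two.coprime_iff_not_dvd.mpr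
          (fun h => by obtain ⟨j, hj⟩ := hodd; omega))) hd hd'
    have := congrArg Subtype.val (DFunLike.congr_fun hφ ⟨x, hx⟩)
    simp only [φ, MulAut.one_apply] at this
    exact mul_inv_eq_iff_eq_mul.mp this
  intro x hx
  have hxU : x ∈ U' := Subgroup.mem_sup_left hx
  by_cases hxR : x ∈ R
  · exact hVcen x (Subgroup.mem_inf.mpr ⟨hxU, hxR⟩)
  have hgxR : g * x * g⁻¹ ∉ R := fun h => hxR (by
    have hm := hgU' x hxU
    have hV' : g * x * g⁻¹ ∈ V := Subgroup.mem_inf.mpr ⟨hm, h⟩
    have h1 := hVcen _ hV'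
    have : x = g * x * g⁻¹ := by
      have : g * x = g * (g * x * g⁻¹) := by rw [h1]; group
      exact mul_left_cancel this
    rwa [this])
  have hv : x⁻¹ * (g * x * g⁻¹) ∈ V := by
    refine Subgroup.mem_inf.mpr ⟨U'.mul_mem (U'.inv_mem hxU) (hgU' x hxU), ?_⟩
    exact (Subgroup.mul_mem_iff_of_index_two (H := R.subgroupOf S) hRi
      (a := ⟨x, hU'S hxU⟩⁻¹) (b := ⟨g * x * g⁻¹, hU'S (hgU' x hxU)⟩)).mpr
      (iff_of_false (fun h => hxR (by simpa [Subgroup.mem_subgroupOf] using h)) hgxR)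
  have hcv := hVcen _ hv
  have hiter : ∀ m : ℕ, g ^ m * x * (g ^ m)⁻¹ = x * (x⁻¹ * (g * x * g⁻¹)) ^ m := by
    intro m
    induction m with
    | zero => simp
    | succ m ih =>
      have hc : g * (x⁻¹ * (g * x * g⁻¹)) ^ m * g⁻¹ = (x⁻¹ * (g * x * g⁻¹)) ^ m := by
        rw [((show Commute g _ from hcv).pow_right m).eq, mul_inv_cancel_right]
      calc g ^ (m + 1) * x * (g ^ (m + 1))⁻¹ = g * (g ^ m * x * (g ^ m)⁻¹) * g⁻¹ := by
            rw [pow_succ']; group
        _ = (g * x * g⁻¹) * (g * (x⁻¹ * (g * x * g⁻¹)) ^ m * g⁻¹) := by rw [ih]; group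
        _ = x * (x⁻¹ * (g * x * g⁻¹)) ^ (m + 1) := by
            rw [hc, pow_succ', ← mul_assoc x, mul_inv_cancel_left]
  have h0 := hiter (orderOf g)
  rw [pow_orderOf_eq_one, one_mul, inv_one, mul_one, left_eq_mul] at h0
  have hd : orderOf (x⁻¹ * (g * x * g⁻¹)) ∣ orderOf g := orderOf_dvd_of_pow_eq_one h0
  obtain ⟨k, hk⟩ := (IsPGroup.iff_orderOf.mp hSp)
    ⟨_, hU'S (Subgroup.mem_inf.mp hv).1⟩
  rw [Subgroup.orderOf_mk] at hk
  have h1 : orderOf (x⁻¹ * (g * x * g⁻¹)) = 1 := by
    refine Nat.eq_one_of_dvd_coprimes (Nat.Coprime.pow_left k ?_) (a := 2 ^ k) (b := orderOf g)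
      (dvd_of_eq hk) hd
    exact Nat.prime_two.coprime_iff_not_dvd.mpr (fun h => by obtain ⟨j, hj⟩ := hodd; omega)
  rw [orderOf_eq_one_iff, inv_mul_eq_one, eq_comm] at h1
  exact mul_inv_eq_iff_eq_mul.mp h1

/-- The configuration. -/
theorem exists_setup_of_dihedral [IsSimpleGroup G] (S : Sylow 2 G) (n : ℕ)
    (hn : 2 ≤ n) (hS : Nonempty ((S : Subgroup G) ≃* DihedralGroup n)) (t : G) (ht : orderOf t = 2)
    (htS : t ∈ (S : Subgroup G))
    (htZ : ∀ s ∈ (S : Subgroup G), s * t = t * s) (O : Subgroup G)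
    (hO : O = (Cfsg.oddCore (Subgroup.centralizer ({t} : Set G))).map
      (Subgroup.centralizer ({t} : Set G)).subtype)
    (ha : O ≠ ⊥ → IsCyclic ((S : Subgroup G) ⊓ Subgroup.centralizer (O : Set G) : Subgroup G) ∧
      ((S : Subgroup G) ⊓ Subgroup.centralizer (O : Set G)).relIndex (S : Subgroup G) = 2)
    (hb : ∀ s ∈ (S : Subgroup G), s ∉ Subgroup.centralizer (O : Set G) → ∀ y ∈ O, s * y * s⁻¹ = y⁻¹)
    (hc : ∀ Y : Subgroup G, Y ≤ O → Y ≠ ⊥ →
      Subgroup.normalizer (Y : Set G) ≤ Subgroup.centralizer ({t} : Set G)) :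
    Nonempty (Setup G) := by
  classical
  haveI : Fact (Nat.Prime 2) := ⟨Nat.prime_two⟩
  obtain ⟨e⟩ := hS
  set C := Subgroup.centralizer ({t} : Set G) with hC
  have hSC : (S : Subgroup G) ≤ C := fun s hs => Subgroup.mem_centralizer_singleton_iff.mpr (htZ s hs)
  have hOC : O ≤ C := hO ▸ Subgroup.map_subtype_le _
  have hOt : ∀ y ∈ O, y * t = t * y := fun y hy => Subgroup.mem_centralizer_singleton_iff.mp (hOC hy)
  have hSp : IsPGroup 2 (S : Subgroup G) := S.isPGroup'
  -- the cyclic subgroup of index two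
  obtain ⟨R, hRS, hRc, hRi, htR, hRO, hsO⟩ : ∃ R : Subgroup G, R ≤ (S : Subgroup G) ∧ IsCyclic R ∧
      R.relIndex (S : Subgroup G) = 2 ∧ t ∈ R ∧ (∀ r ∈ R, ∀ y ∈ O, y * r = r * y) ∧
      (∀ s ∈ (S : Subgroup G), s ∉ R → ∀ y ∈ O, s * y * s⁻¹ = y⁻¹) := by
    by_cases hO1 : O = ⊥
    · obtain ⟨R, h1, h2, h3, h4⟩ := exists_cyclic_index_two hn e ht htS htZ
      exact ⟨R, h1, h2, h3, h4,
        fun r _ y hy => by rw [hO1, Subgroup.mem_bot] at hy; simp [hy],
        fun s _ _ y hy => by rw [hO1, Subgroup.mem_bot] at hy; simp [hy]⟩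
    · obtain ⟨h1, h2⟩ := ha hO1
      exact ⟨_, inf_le_left, h1, h2,
        Subgroup.mem_inf.mpr ⟨htS, Subgroup.mem_centralizer_iff.mpr hOt⟩,
        fun r hr y hy => Subgroup.mem_centralizer_iff.mp (Subgroup.mem_inf.mp hr).2 y hy,
        fun s hs hsR => hb s hs fun h => hsR (Subgroup.mem_inf.mpr ⟨hs, h⟩)⟩
  obtain ⟨s, hsS, hsR⟩ : ∃ s ∈ (S : Subgroup G), s ∉ R := by
    by_contra h
    push Not at h
    rw [Subgroup.relIndex_eq_one.mpr h] at hRi
    omega
  have hinvo : ∀ d ∈ (S : Subgroup G), d ∉ R → orderOf d = 2 := fun d hd hdR =>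
    DihedralTransfer.dihedral_involution hn e hRS hRc hRi hd hdR
  have hsR' : ∀ r ∈ R, s * r * s⁻¹ = r⁻¹ := by
    intro r hr
    have h1 := hinvo (s * r) ((S : Subgroup G).mul_mem hsS (hRS hr))
      (fun h => hsR (by simpa using R.mul_mem h (R.inv_mem hr)))
    have h2 : (s * r) * (s * r) = 1 := by rw [← pow_two, ← h1, pow_orderOf_eq_one]
    have h3 : s * s = 1 := by rw [← pow_two, ← hinvo s hsS hsR, pow_orderOf_eq_one]
    have h4 : s⁻¹ = s := inv_eq_of_mul_eq_one_right h3
    rw [h4]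
    exact eq_inv_of_mul_eq_one_left (by rw [← h2]; group)
  haveI hOn : (O.subgroupOf C).Normal := by
    rw [hO, Subgroup.subgroupOf, Subgroup.comap_map_eq_self_of_injective C.subtype_injective]
    haveI : (Cfsg.oddCore C).Characteristic := PSolvable.pPrimeCore_characteristic
    infer_instance
  have hOodd : ∀ y ∈ O, Odd (orderOf y) := by
    intro y hy
    rw [hO] at hy
    obtain ⟨z, hz, rfl⟩ := hy
    have h1 : Nat.Coprime (orderOf z) 2 := Nat.Coprime.coprime_dvd_left
      (Subgroup.orderOf_dvd_natCard _ hz) (PSolvable.pPrimeCore_coprime (p := 2) (G := C))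
    rw [Subgroup.coe_subtype, Subgroup.orderOf_coe]
    exact Nat.coprime_two_right.mp h1
  -- the centraliser is `O S`
  have hCOS : ∀ x ∈ C, ∃ y ∈ O, ∃ z ∈ (S : Subgroup G), x = y * z := by
    let P : Sylow 2 C := S.subtype hSC
    have hPc : (P : Subgroup C) = (S : Subgroup G).subgroupOf C := Sylow.coe_subtype S hSC
    have hnpc : Cfsg.HasNormalPComplement 2 C := by
      refine Transfer.hasNormalPComplement_iff_locallyPTrivial.mpr
        (Transfer.locallyPTrivial_of_sylow P fun U hU g hg hgo => ?_)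
      rw [hPc] at hU
      have hUS : U.map C.subtype ≤ (S : Subgroup G) := by
        rintro _ ⟨x, hx, rfl⟩; exact hU hx
      have key := centralises_of_odd hn e hSp hRS hRc hRi ht htR htZ hUS (g := (g : G))
        (Subgroup.mem_centralizer_singleton_iff.mp g.2) (fun x => ?_)
        (by rw [Subgroup.orderOf_coe]; exact Nat.coprime_two_right.mp hgo)
      · rw [Subgroup.mem_centralizer_iff]
        exact fun x hx => Subtype.ext (key x ⟨x, hx, rfl⟩).symm
      · constructor
        · rintro ⟨z, hz, rfl⟩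
          exact ⟨g * z * g⁻¹, (Subgroup.mem_normalizer_iff.mp hg z).mp hz, rfl⟩
        · rintro ⟨z, hz, hzx⟩
          refine ⟨g⁻¹ * z * g, (Subgroup.mem_normalizer_iff.mp hg _).mpr (by simpa [mul_assoc] using hz), ?_⟩
          rw [map_mul, map_mul, hzx, map_inv, Subgroup.coe_subtype]
          group
    obtain ⟨P', M, hMn, hMc⟩ := hnpc
    haveI := hMn
    have hMcard : ¬ 2 ∣ Nat.card M := by
      rw [← hMc.index_eq_card]; exact P'.not_dvd_index
    have hMle : M ≤ Cfsg.oddCore C := PSolvable.le_pPrimeCore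
      ((Nat.prime_two.coprime_iff_not_dvd.mpr hMcard).symm)
    obtain ⟨c, hcP⟩ := MulAction.exists_smul_eq C P' P
    intro x hx
    have htop : (M : Subgroup C) ⊔ (P : Subgroup C) = ⊤ := by
      rw [← hcP, Sylow.coe_subgroup_smul, eq_top_iff]
      intro z _
      have : (MulAut.conj c⁻¹) z ∈ M ⊔ (P' : Subgroup C) := hMc.sup_eq_top ▸ Subgroup.mem_top _
      obtain ⟨a, ha, b, hb, hab⟩ := Subgroup.mem_sup_of_normal_left.mp this
      have hz : z = (MulAut.conj c) a * (MulAut.conj c) b := by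
        rw [← map_mul, hab, ← MulAut.mul_apply, ← map_mul, mul_inv_cancel, map_one, MulAut.one_apply]
      rw [hz]
      exact Subgroup.mul_mem_sup (hMn.conj_mem a ha c)
        (Subgroup.smul_mem_pointwise_smul _ (MulAut.conj c) _ hb)
    obtain ⟨a, ha, b, hb, hab⟩ := Subgroup.mem_sup_of_normal_left.mp
      (htop ▸ Subgroup.mem_top (⟨x, hx⟩ : C))
    rw [hPc] at hb
    exact ⟨a, hO ▸ ⟨a, hMle ha, rfl⟩, b, hb, (congrArg Subtype.val hab).symm⟩
  -- abelian core
  have hOab : ∀ a ∈ O, ∀ b ∈ O, a * b = b * a := by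
    intro a ha b hb
    have h := hsO s hsS hsR (a * b) (O.mul_mem ha hb)
    rw [mul_inv_rev, show s * (a * b) * s⁻¹ = (s * a * s⁻¹) * (s * b * s⁻¹) by group,
      hsO s hsS hsR a ha, hsO s hsS hsR b hb] at h
    have := congrArg (·⁻¹) h
    simpa [mul_inv_rev] using this.symm
  have hRab : ∀ a ∈ R, ∀ b ∈ R, a * b = b * a := fun a ha b hb => by
    haveI := hRc
    exact congrArg Subtype.val ((IsCyclic.commGroup (α := R)).mul_comm ⟨a, ha⟩ ⟨b, hb⟩)
  set K := O ⊔ R with hK
  have hRN : R ≤ Subgroup.normalizer (O : Set G) := fun r hr => by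
    refine Subgroup.centralizer_le_normalizer _ ?_
    rw [Subgroup.mem_centralizer_iff]
    exact fun y hy => hRO r hr y hy
  have hKmem : ∀ x ∈ K, ∃ y ∈ O, ∃ r ∈ R, x = y * r := by
    intro x hx
    have hx' : x ∈ ((O ⊔ R : Subgroup G) : Set G) := hx
    rw [Subgroup.coe_mul_of_right_le_normalizer_left O R hRN] at hx'
    obtain ⟨y, hy, r, hr, h⟩ := hx'
    exact ⟨y, hy, r, hr, h.symm⟩
  have hKab : ∀ a ∈ K, ∀ b ∈ K, a * b = b * a := by
    intro a ha b hb
    obtain ⟨y, hy, r, hr, rfl⟩ := hKmem a ha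
    obtain ⟨y', hy', r', hr', rfl⟩ := hKmem b hb
    calc y * r * (y' * r') = y * (r * y') * r' := by group
      _ = y * (y' * r) * r' := by rw [hRO r hr y' hy']
      _ = (y * y') * (r * r') := by group
      _ = (y' * y) * (r' * r) := by rw [hOab y hy y' hy', hRab r hr r' hr']
      _ = y' * (y * r') * r := by group
      _ = y' * (r' * y) * r := by rw [hRO r' hr' y hy]
      _ = y' * r' * (y * r) := by group
  have htK : t ∈ K := Subgroup.mem_sup_right htR
  have hinv : ∀ x ∈ K, s * x * s⁻¹ = x⁻¹ := by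
    intro x hx
    obtain ⟨y, hy, r, hr, rfl⟩ := hKmem x hx
    rw [show s * (y * r) * s⁻¹ = (s * y * s⁻¹) * (s * r * s⁻¹) by group, hsO s hsS hsR y hy,
      hsR' r hr, ← mul_inv_rev, hRO r hr y hy]
  have hfix : ∀ x ∈ K, x * x = 1 → x = 1 ∨ x = t := by
    intro x hx hxx
    obtain ⟨y, hy, r, hr, rfl⟩ := hKmem x hx
    have h1 : (y * y) * (r * r) = 1 := by
      rw [← hxx]
      calc y * y * (r * r) = y * (y * r) * r := by group
        _ = y * (r * y) * r := by rw [hRO r hr y hy]
        _ = y * r * (y * r) := by group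
    obtain ⟨k, hk⟩ := IsPGroup.iff_orderOf.mp hSp ⟨r * r, (S : Subgroup G).mul_mem (hRS hr) (hRS hr)⟩
    rw [Subgroup.orderOf_mk] at hk
    have hyy : orderOf (y * y) = 1 := by
      refine Nat.eq_one_of_dvd_coprimes (Nat.Coprime.pow_left k ?_)
        (a := 2 ^ k) (b := orderOf y) ?_ ?_
      · exact Nat.coprime_two_left.mpr (hOodd y hy)
      · rw [eq_inv_of_mul_eq_one_left h1, orderOf_inv, hk]
      · rw [← pow_two]; exact orderOf_pow_dvd 2
    rw [orderOf_eq_one_iff] at hyy
    have hy1 : y = 1 := by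
      rw [← orderOf_eq_one_iff]
      refine Nat.eq_one_of_dvd_coprimes (a := 2) (b := orderOf y)
        (Nat.coprime_two_left.mpr (hOodd y hy)) ?_ dvd_rfl
      exact orderOf_dvd_of_pow_eq_one (by rw [pow_two]; exact hyy)
    rw [hyy, one_mul] at h1
    rw [hy1, one_mul]
    exact eq_of_involutions_cyclic hRc htR hr ht h1
  have hs2 : orderOf s = 2 := hinvo s hsS hsR
  have hsK : s ∉ K := by
    intro h
    rcases hfix s h (by rw [← pow_two, ← hs2, pow_orderOf_eq_one]) with h1 | h1
    · rw [h1, orderOf_one] at hs2; omega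
    · exact hsR (h1 ▸ htR)
  have hH : ∀ x, x * t = t * x → x ∈ K ∨ s * x ∈ K := by
    intro x hx
    obtain ⟨y, hy, z, hz, rfl⟩ := hCOS x (Subgroup.mem_centralizer_singleton_iff.mpr hx)
    by_cases hzR : z ∈ R
    · exact Or.inl (Subgroup.mul_mem_sup hy hzR)
    · right
      have hsz : s * z ∈ R :=
        (Subgroup.mul_mem_iff_of_index_two (H := R.subgroupOf (S : Subgroup G)) hRi
          (a := ⟨s, hsS⟩) (b := ⟨z, hz⟩)).mpr (iff_of_false hsR hzR)
      rw [show s * (y * z) = (s * y * s⁻¹) * (s * z) by group, hsO s hsS hsR y hy]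
      exact Subgroup.mul_mem_sup (O.inv_mem hy) hsz
  have hconj : ∀ x, orderOf x = 2 → IsConj t x := by
    intro x hx
    have hno : ∀ H : Subgroup G, H.index ≠ 2 := by
      intro H hH2
      have := Subgroup.normal_of_index_eq_two hH2
      rcases this.eq_bot_or_eq_top with rfl | rfl
      · rw [Subgroup.index_bot] at hH2
        have h1 := Subgroup.card_subgroup_dvd_card (S : Subgroup G)
        rw [Nat.card_congr e.toEquiv, DihedralGroup.nat_card, hH2] at h1
        have := Nat.le_of_dvd two_pos h1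
        omega
      · simp at hH2
    obtain ⟨g, hg⟩ := Involution.exists_conj_mem_of_no_index_two hno S R hRS hRi x hx
    have hord : orderOf (g * x * g⁻¹) = 2 := by rw [← MulAut.conj_apply, MulEquiv.orderOf_eq, hx]
    rcases eq_of_involutions_cyclic hRc htR hg ht (by rw [← pow_two, ← hord, pow_orderOf_eq_one])
      with h | h
    · rw [h, orderOf_one] at hord; omega
    · exact (isConj_iff.mpr ⟨g, h⟩).symm
  -- trivial intersection
  have hTI : ∀ g x, x ∈ K → x ≠ 1 → g * x * g⁻¹ ∈ K → g * t = t * g := by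
    intro g x hx hx1 hgx
    obtain ⟨q, hq, m, hm⟩ := Nat.exists_prime_and_dvd (n := orderOf x)
      (fun h => hx1 (orderOf_eq_one_iff.mp h))
    set y := x ^ m with hy
    have hyK : y ∈ K := pow_mem hx m
    have hgy : g * y * g⁻¹ ∈ K := by
      have h1 := map_pow (MulAut.conj g) x m
      rw [MulAut.conj_apply, MulAut.conj_apply] at h1
      rw [hy, h1]
      exact pow_mem hgx m
    have hm0 : m ≠ 0 := fun h => by
      rw [h, mul_zero] at hm
      exact (orderOf_pos x).ne' hm
    have hyo : orderOf y = q := by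
      rw [hy, orderOf_pow_of_dvd hm0 ⟨q, by rw [hm, mul_comm]⟩, hm]
      exact Nat.mul_div_cancel _ (Nat.pos_of_ne_zero hm0)
    have hyoK : ∀ w ∈ K, orderOf w = 2 → w = t := by
      intro w hw hw2
      rcases hfix w hw (by rw [← pow_two, ← hw2, pow_orderOf_eq_one]) with h | h
      · rw [h, orderOf_one] at hw2; omega
      · exact h
    by_cases hq2 : q = 2
    · subst hq2
      have h1 := hyoK y hyK hyo
      have h2 := hyoK _ hgy (by rw [← MulAut.conj_apply, MulEquiv.orderOf_eq, hyo])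
      rw [h1] at h2
      exact mul_inv_eq_iff_eq_mul.mp h2
    · have hmemO : ∀ w ∈ K, orderOf w = q → w ∈ O := by
        intro w hw hwq
        obtain ⟨a, ha, r, hr, rfl⟩ := hKmem w hw
        have hpow : a ^ q * r ^ q = 1 := by
          rw [← (show Commute a r from hRO r hr a ha).mul_pow, ← hwq, pow_orderOf_eq_one]
        obtain ⟨k, hk⟩ := IsPGroup.iff_orderOf.mp hSp ⟨r, hRS hr⟩
        rw [Subgroup.orderOf_mk] at hk
        have h1 : r ^ q = 1 := by
          rw [← orderOf_eq_one_iff]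
          refine Nat.eq_one_of_dvd_coprimes (Nat.Coprime.pow_left k ?_) (a := 2 ^ k) (b := orderOf a)
            ((orderOf_pow_dvd q).trans (dvd_of_eq hk)) ?_
          · exact Nat.coprime_two_left.mpr (hOodd a ha)
          · rw [eq_inv_of_mul_eq_one_right hpow, orderOf_inv]
            exact orderOf_pow_dvd q
        have hr1 : r = 1 := by
          rw [← orderOf_eq_one_iff]
          exact Nat.eq_one_of_dvd_coprimes (Nat.Coprime.pow_left k
            ((Nat.coprime_primes Nat.prime_two hq).mpr (Ne.symm hq2))) (a := 2 ^ k) (b := q)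
            (dvd_of_eq hk) (orderOf_dvd_of_pow_eq_one h1)
        rwa [hr1, mul_one]
      have hyO := hmemO y hyK hyo
      have hy'O := hmemO _ hgy (by rw [← MulAut.conj_apply, MulEquiv.orderOf_eq, hyo])
      set y' := g * y * g⁻¹ with hy'
      have hy'1 : y' ≠ 1 := fun h => by
        have : orderOf y' = q := by rw [hy', ← MulAut.conj_apply, MulEquiv.orderOf_eq, hyo]
        rw [h, orderOf_one] at this
        exact hq.one_lt.ne this
      set w := g * t * g⁻¹ with hw
      have hwy : w * y' = y' * w := by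
        rw [hw, hy']
        calc g * t * g⁻¹ * (g * y * g⁻¹) = g * (t * y) * g⁻¹ := by group
          _ = g * (y * t) * g⁻¹ := by rw [hOt y hyO]
          _ = g * y * g⁻¹ * (g * t * g⁻¹) := by group
      have hwC : w * t = t * w := by
        refine Subgroup.mem_centralizer_singleton_iff.mp (hc (Subgroup.zpowers y')
          (Subgroup.zpowers_le.mpr hy'O) (by simpa using hy'1) ?_)
        refine Subgroup.centralizer_le_normalizer _ ?_
        rintro _ ⟨j, rfl⟩
        exact (((show Commute w y' from hwy).zpow_right j).eq).symm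
      have hw2 : orderOf w = 2 := by rw [hw, ← MulAut.conj_apply, MulEquiv.orderOf_eq, ht]
      have hwt : w = t := by
        rcases hH w hwC with h | h
        · exact hyoK w h hw2
        · exfalso
          -- then `w` inverts `y'`
          obtain ⟨k, hkK, hwk⟩ : ∃ k ∈ K, w = s * k := ⟨s * w, h, by
            rw [← mul_assoc, show s * s = 1 by rw [← pow_two, ← hs2, pow_orderOf_eq_one], one_mul]⟩
          have hy'K : y' ∈ K := Subgroup.mem_sup_left hy'O
          have h1 : w * y' * w⁻¹ = y'⁻¹ := by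
            rw [hwk, show s * k * y' * (s * k)⁻¹ = s * (k * y' * k⁻¹) * s⁻¹ by group,
              hKab k hkK y' hy'K, mul_inv_cancel_right, hinv y' hy'K]
          rw [hwy, mul_inv_cancel_right] at h1
          rcases hfix y' hy'K (eq_inv_iff_mul_eq_one.mp h1) with h2 | h2
          · exact hy'1 h2
          · have h3 := hOodd y' hy'O
            rw [h2, ht] at h3
            exact absurd h3 (by decide)
      exact mul_inv_eq_iff_eq_mul.mp hwt
  exact ⟨⟨t, K, s, ht, hKab, htK, hs2, htZ s hsS, hsK, hH, hinv, hfix, hTI, hconj⟩⟩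

end Cfsg.Agent.Lib.BSW
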