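import Cfsg.Agent.Lib.BSW.Small

/-!
The Brauer–Suzuki–Wall configuration with `q = 2|K| - 1`: the non-real elements.
-/

set_option autoImplicit false

namespace Cfsg.Agent.Lib.BSW

open Cfsg.Agent.Lib

universe u

namespace Setup

variable {G : Type u} [Group G] [Fintype G] (S : Setup G)

omit [Fintype G] in
theorem inverted_conj {g : G} (hg : Inverted g) (h : G) : Inverted (h * g * h⁻¹) := by
  obtain ⟨u, hu, hug⟩ := hg
  refine ⟨h * u * h⁻¹, by rw [orderOf_conj', hu], ?_⟩
  calc h * u * h⁻¹ * (h * g * h⁻¹) * (h * u * h⁻¹)⁻¹ = h * (u * g * u⁻¹) * h⁻¹ := by group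
    _ = (h * g * h⁻¹)⁻¹ := by rw [hug]; group

omit [Fintype G] in
theorem inverted_inv_iff {g : G} : Inverted g⁻¹ ↔ Inverted g := by
  have : ∀ g : G, Inverted g → Inverted g⁻¹ := fun g ⟨u, hu, hug⟩ => ⟨u, hu, by
    rw [show u * g⁻¹ * u⁻¹ = (u * g * u⁻¹)⁻¹ by group, hug]⟩
  exact ⟨fun h => inv_inv g ▸ this _ h, this g⟩

omit [Fintype G] in
theorem out_inv {g : G} (hg : S.Out g) : S.Out g⁻¹ :=
  ⟨fun e => hg.1 (inv_eq_one.mp e), fun h hh => hg.2 h (by
    have := S.K.inv_mem hh
    simpa [mul_assoc] using this)⟩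

/-- The counting facts of this configuration. -/
theorem minus_counts (hn : (Subgroup.centralizer ({S.t} : Set G)).index
      = (2 * Nat.card S.K - 1) * (Nat.card S.K - 1))
    (hreal : ∀ g, S.Out g → Inverted g →
      Nat.card (Subgroup.centralizer ({g} : Set G)) = Nat.card S.K - 1) :
    (∀ (U : Finset G), (∀ g ∈ U, S.Out g ∧ ¬ Inverted g) →
      U.card ≤ 4 * Nat.card S.K * (Nat.card S.K - 1)) ∧
    (∃ g, S.Out g ∧ ¬ Inverted g) ∧
    (4 ≤ Nat.card S.K → ∃ g, S.Out g ∧ Inverted g) := by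
  classical
  obtain ⟨k', hk'⟩ : ∃ k', Nat.card S.K = k' + 2 :=
    ⟨Nat.card S.K - 2, by have := Nat.le_of_dvd Nat.card_pos S.even_card_K; omega⟩
  set R := S.outSet.filter fun g => Inverted g
  set R0 := S.outSet.filter fun g => ¬ Inverted g
  have h1 := S.card_outSet
  have h2 := S.sum_nPairs_out
  rw [← Finset.sum_filter_add_sum_filter_not S.outSet (fun g => Inverted g),
    Finset.sum_congr rfl (g := fun _ => Nat.card S.K - 1) fun g hg => by
      rw [S.nPairs_inverted (S.mem_outSet.mp (Finset.mem_filter.mp hg).1) (Finset.mem_filter.mp hg).2,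
        hreal g (S.mem_outSet.mp (Finset.mem_filter.mp hg).1) (Finset.mem_filter.mp hg).2],
    Finset.sum_eq_zero (s := S.outSet.filter fun g => ¬ Inverted g) fun g hg =>
      S.nPairs_not_inverted (S.mem_outSet.mp (Finset.mem_filter.mp hg).1) (Finset.mem_filter.mp hg).2,
    Finset.sum_const, smul_eq_mul, add_zero, hn, hk'] at h2
  rw [← Finset.card_filter_add_card_filter_not (s := S.outSet) (fun g => Inverted g), hn, hk'] at h1
  simp only [show k' + 2 - 1 = k' + 1 by omega, show 2 * (k' + 2) - 1 = 2 * k' + 3 by omega] at h1 h2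
  push_cast at h1 h2
  have hR : (R.card : ℤ) = (2 * k' + 3) * (k' + 2) * k' := by
    apply mul_left_cancel₀ (show ((k' : ℤ) + 1) ≠ 0 by omega)
    linear_combination h2
  have hR0 : (R0.card : ℤ) = 4 * ((k' : ℤ) + 2) * ((k' : ℤ) + 1) := by linear_combination h1 - hR
  have hR0' : R0.card = 4 * (k' + 2) * (k' + 1) := by exact_mod_cast hR0
  refine ⟨fun U hU => ?_, ?_, fun h4 => ?_⟩
  · rw [hk', show k' + 2 - 1 = k' + 1 by omega, ← hR0']
    exact Finset.card_le_card fun g hg => Finset.mem_filter.mpr ⟨S.mem_outSet.mpr (hU g hg).1, (hU g hg).2⟩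
  · obtain ⟨g, hg⟩ : R0.Nonempty := by rw [← Finset.card_pos, hR0']; positivity
    exact ⟨g, S.mem_outSet.mp (Finset.mem_filter.mp hg).1, (Finset.mem_filter.mp hg).2⟩
  · have hk0 : 0 < k' := by omega
    have hR' : R.card = (2 * k' + 3) * (k' + 2) * k' := by exact_mod_cast hR
    obtain ⟨g, hg⟩ : R.Nonempty := by rw [← Finset.card_pos, hR']; positivity
    exact ⟨g, S.mem_outSet.mp (Finset.mem_filter.mp hg).1, (Finset.mem_filter.mp hg).2⟩

/-- Centralisers of non-real elements have order dividing `q`. -/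
theorem card_centralizer_dvd (hn : (Subgroup.centralizer ({S.t} : Set G)).index
      = (2 * Nat.card S.K - 1) * (Nat.card S.K - 1))
    (hreal : ∀ g, S.Out g → Inverted g →
      Nat.card (Subgroup.centralizer ({g} : Set G)) = Nat.card S.K - 1)
    {g : G} (hg : S.Out g) (hi : ¬ Inverted g) :
    Nat.card (Subgroup.centralizer ({g} : Set G)) ∣ 2 * Nat.card S.K - 1 := by
  classical
  set k := Nat.card S.K with hk
  have hk2 : 2 ≤ k := Nat.le_of_dvd Nat.card_pos S.even_card_K
  have hd := S.dvd_index_of_out hg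
  rw [hn] at hd
  refine Nat.Coprime.dvd_of_dvd_mul_right ?_ hd
  refine Nat.coprime_of_dvd fun r hr hr1 hr2 => ?_
  haveI : Fact r.Prime := ⟨hr⟩
  have hk4 : 4 ≤ k := by
    by_contra h
    have := S.even_card_K
    have e : k - 1 = 1 := by omega
    rw [e] at hr2
    exact hr.ne_one (Nat.dvd_one.mp hr2)
  obtain ⟨a, ha, hai⟩ := (S.minus_counts hn hreal).2.2 hk4
  set A := Subgroup.centralizer ({a} : Set G) with hA
  obtain ⟨y, hy⟩ := exists_prime_orderOf_dvd_card' (G := A) r (by rw [hA, hreal a ha hai]; exact hr2)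
  rw [← Subgroup.orderOf_coe] at hy
  have hy1 : (y : G) ≠ 1 := fun e => by rw [e, orderOf_one] at hy; exact hr.one_lt.ne hy
  have hyp : IsPGroup r (Subgroup.zpowers (y : G)) :=
    IsPGroup.of_card (n := 1) (by rw [Nat.card_zpowers, hy, pow_one])
  obtain ⟨P, hP⟩ := hyp.exists_le_sylow
  have hyP : (y : G) ∈ (P : Subgroup G) := hP (Subgroup.mem_zpowers _)
  haveI : Nontrivial (P : Subgroup G) := ⟨⟨⟨y, hyP⟩, 1, fun e => hy1 (congrArg Subtype.val e)⟩⟩
  haveI := P.isPGroup'.center_nontrivial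
  obtain ⟨z, hz1⟩ := exists_ne (1 : Subgroup.center (P : Subgroup G))
  have hzc : ∀ w ∈ (P : Subgroup G), w * ((z : (P : Subgroup G)) : G) = ((z : (P : Subgroup G)) : G) * w :=
    fun w hw => congrArg Subtype.val (Subgroup.mem_center_iff.mp z.2 ⟨w, hw⟩)
  have hzA : ((z : (P : Subgroup G)) : G) ∈ A := by
    rw [hA, ← S.centralizer_eq ha hai y.2 hy1, Subgroup.mem_centralizer_singleton_iff]
    exact (hzc y hyP).symm
  have hz1' : ((z : (P : Subgroup G)) : G) ≠ 1 := fun e => hz1 (Subtype.ext (Subtype.ext e))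
  have hPA : (P : Subgroup G) ≤ A := fun w hw => by
    rw [hA, ← S.centralizer_eq ha hai hzA hz1', Subgroup.mem_centralizer_singleton_iff]
    exact hzc w hw
  obtain ⟨x, hx⟩ := exists_prime_orderOf_dvd_card' r hr1
  rw [← Subgroup.orderOf_coe] at hx
  have hx1 : (x : G) ≠ 1 := fun e => by rw [e, orderOf_one] at hx; exact hr.one_lt.ne hx
  have hxp : IsPGroup r (Subgroup.zpowers (x : G)) :=
    IsPGroup.of_card (n := 1) (by rw [Nat.card_zpowers, hx, pow_one])
  obtain ⟨P', hP'⟩ := hxp.exists_le_sylow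
  obtain ⟨w, hw⟩ := MulAction.exists_smul_eq G P' P
  have hxA : w * x * w⁻¹ ∈ A := hPA (by
    rw [← hw, Sylow.coe_subgroup_smul]
    exact ⟨x, hP' (Subgroup.mem_zpowers _), rfl⟩)
  have hgA : w * g * w⁻¹ ∈ A := by
    rw [hA, ← S.centralizer_eq ha hai hxA fun e => hx1 (by simpa using e),
      Subgroup.mem_centralizer_singleton_iff]
    have := Subgroup.mem_centralizer_singleton_iff.mp x.2
    calc w * g * w⁻¹ * (w * x * w⁻¹) = w * (g * x) * w⁻¹ := by group
      _ = w * (x * g) * w⁻¹ := by rw [this]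
      _ = w * x * w⁻¹ * (w * g * w⁻¹) := by group
  exact hi (S.conjUnion_subset_inverted ha hai g (mem_conjUnion.mpr ⟨hg.1, w, hgA⟩)).2.1

/-- The non-real elements form two classes of elements with centralisers of order `q`. -/
theorem minus_classes (hn : (Subgroup.centralizer ({S.t} : Set G)).index
      = (2 * Nat.card S.K - 1) * (Nat.card S.K - 1))
    (hreal : ∀ g, S.Out g → Inverted g →
      Nat.card (Subgroup.centralizer ({g} : Set G)) = Nat.card S.K - 1)
    {g : G} (hg : S.Out g) (hi : ¬ Inverted g) :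
    Nat.card (Subgroup.centralizer ({g} : Set G)) = 2 * Nat.card S.K - 1 ∧
      ∀ x, S.Out x → ¬ Inverted x → IsConj g x ∨ IsConj g⁻¹ x := by
  classical
  set k := Nat.card S.K with hk
  have hk2 : 2 ≤ k := Nat.le_of_dvd Nat.card_pos S.even_card_K
  set C1 := Finset.univ.filter (IsConj g) with hC1
  set C2 := Finset.univ.filter (IsConj g⁻¹) with hC2
  have hmem : ∀ x ∈ C1 ∪ C2, S.Out x ∧ ¬ Inverted x := by
    intro x hx
    rcases Finset.mem_union.mp hx with h | h
    · obtain ⟨c, rfl⟩ := isConj_iff.mp (Finset.mem_filter.mp h).2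
      refine ⟨S.out_conj hg c, fun h' => hi ?_⟩
      simpa [mul_assoc] using inverted_conj h' c⁻¹
    · obtain ⟨c, rfl⟩ := isConj_iff.mp (Finset.mem_filter.mp h).2
      refine ⟨S.out_conj (S.out_inv hg) c, fun h' => hi (inverted_inv_iff.mp ?_)⟩
      simpa [mul_assoc] using inverted_conj h' c⁻¹
  have hdisj : Disjoint C1 C2 := by
    rw [Finset.disjoint_left]
    intro x h1 h2
    exact hi (S.inverted_of_isConj_inv hg
      ((Finset.mem_filter.mp h1).2.trans (Finset.mem_filter.mp h2).2.symm))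
  have hcard : ∀ x : G, (Finset.univ.filter (IsConj x)).card * Nat.card (Subgroup.centralizer ({x} : Set G))
      = Nat.card G := fun x => by
    rw [← Fintype.card_subtype, ← Nat.card_eq_fintype_card, Chars.card_conjClass_eq_index, mul_comm,
      Subgroup.card_mul_index]
  have e1 := hcard g
  have e2 := hcard g⁻¹
  have hcc : Nat.card (Subgroup.centralizer ({g⁻¹} : Set G)) = Nat.card (Subgroup.centralizer ({g} : Set G)) := by
    congr 2
    ext w
    rw [Subgroup.mem_centralizer_singleton_iff, Subgroup.mem_centralizer_singleton_iff]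
    exact ⟨fun h => (Commute.inv_right_iff.mp (show Commute w g⁻¹ from h)).eq,
      fun h => ((show Commute w g from h).inv_right).eq⟩
  rw [← hC1] at e1
  rw [← hC2, hcc] at e2
  have hub := (S.minus_counts hn hreal).1 _ hmem
  rw [Finset.card_union_of_disjoint hdisj] at hub
  have hdvd := S.card_centralizer_dvd hn hreal hg hi
  set m := Nat.card (Subgroup.centralizer ({g} : Set G)) with hm
  have hmq : m ≤ 2 * k - 1 := Nat.le_of_dvd (by omega) hdvd
  rw [S.card_eq, hn, ← hk] at e1 e2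
  have hc12 : C1.card = C2.card := Nat.eq_of_mul_eq_mul_right Nat.card_pos (e1.trans e2.symm)
  have hlow : 2 * k * (k - 1) ≤ C1.card := by
    have h := Nat.mul_le_mul_left C1.card hmq
    rw [e1] at h
    have h' : (2 * k * (k - 1)) * (2 * k - 1) ≤ C1.card * (2 * k - 1) :=
      le_trans (le_of_eq (by ring)) h
    exact Nat.le_of_mul_le_mul_right h' (by omega)
  rw [← hk, show 4 * k * (k - 1) = 2 * (2 * k * (k - 1)) by ring] at hub
  have hC : C1.card = 2 * k * (k - 1) := by omega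
  refine ⟨?_, fun x hx hxi => ?_⟩
  · rw [hC] at e1
    apply Nat.eq_of_mul_eq_mul_left (show 0 < 2 * k * (k - 1) from Nat.mul_pos (by omega) (by omega))
    rw [e1]; ring
  · by_contra hne
    push Not at hne
    have hx' : x ∉ C1 ∪ C2 := fun h => by
      rcases Finset.mem_union.mp h with h | h
      · exact hne.1 (Finset.mem_filter.mp h).2
      · exact hne.2 (Finset.mem_filter.mp h).2
    have := (S.minus_counts hn hreal).1 (insert x (C1 ∪ C2)) (by
      intro y hy
      rcases Finset.mem_insert.mp hy with rfl | h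
      · exact ⟨hx, hxi⟩
      · exact hmem y h)
    rw [Finset.card_insert_of_notMem hx', Finset.card_union_of_disjoint hdisj, ← hk,
      show 4 * k * (k - 1) = 2 * (2 * k * (k - 1)) by ring] at this
    omega

/-- The non-real elements have a common prime order. -/
theorem minus_prime (hn : (Subgroup.centralizer ({S.t} : Set G)).index
      = (2 * Nat.card S.K - 1) * (Nat.card S.K - 1))
    (hreal : ∀ g, S.Out g → Inverted g →
      Nat.card (Subgroup.centralizer ({g} : Set G)) = Nat.card S.K - 1) :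
    ∃ p f : ℕ, p.Prime ∧ 2 * Nat.card S.K - 1 = p ^ f ∧ 1 ≤ f ∧
      (∀ P : Sylow p G, Nat.card P = 2 * Nat.card S.K - 1) ∧
      ∀ x : G, (S.Out x ∧ ¬ Inverted x) ↔ (x ≠ 1 ∧ ∃ j, orderOf x = p ^ j) := by
  classical
  set k := Nat.card S.K with hk
  have hk2 : 2 ≤ k := Nat.le_of_dvd Nat.card_pos S.even_card_K
  obtain ⟨g, hg, hi⟩ := (S.minus_counts hn hreal).2.1
  obtain ⟨hq, hcl⟩ := S.minus_classes hn hreal hg hi
  rw [← hk] at hq
  set Q := Subgroup.centralizer ({g} : Set G) with hQ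
  have hsame : ∀ x, S.Out x → ¬ Inverted x → orderOf x = orderOf g := by
    intro x hx hxi
    rcases hcl x hx hxi with h | h <;> obtain ⟨c, rfl⟩ := isConj_iff.mp h
    · rw [orderOf_conj']
    · rw [orderOf_conj', orderOf_inv]
  have hin : ∀ x ∈ Q, x ≠ 1 → S.Out x ∧ ¬ Inverted x := by
    intro x hx hx1
    have hxo := S.out_of_mem_centralizer hg (Subgroup.mem_centralizer_singleton_iff.mp hx) hx1
    refine ⟨hxo, fun h => hi ?_⟩
    obtain ⟨u, hu, hug⟩ := h
    exact ⟨u, hu, S.inverts_centralizer hxo hu hug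
      (Subgroup.mem_centralizer_singleton_iff.mpr (Subgroup.mem_centralizer_singleton_iff.mp hx).symm)⟩
  have hQ1 : 1 < Nat.card Q := by rw [hq]; omega
  set p := (Nat.card Q).minFac with hpdef
  have hp : p.Prime := Nat.minFac_prime (by omega)
  haveI : Fact p.Prime := ⟨hp⟩
  obtain ⟨y, hy⟩ := exists_prime_orderOf_dvd_card' (G := Q) p (Nat.minFac_dvd _)
  rw [← Subgroup.orderOf_coe] at hy
  have hy1 : (y : G) ≠ 1 := fun e => by rw [e, orderOf_one] at hy; exact hp.one_lt.ne hy
  have hog : orderOf g = p := by rw [← hsame y (hin y y.2 hy1).1 (hin y y.2 hy1).2, hy]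
  have hQp : IsPGroup p Q := IsPGroup.iff_orderOf.mpr fun x => by
    by_cases hx : (x : G) = 1
    · exact ⟨0, by rw [pow_zero, orderOf_eq_one_iff]; exact Subtype.ext hx⟩
    · exact ⟨1, by rw [pow_one, ← Subgroup.orderOf_coe, hsame x (hin x x.2 hx).1 (hin x x.2 hx).2, hog]⟩
  obtain ⟨f, hf⟩ := IsPGroup.iff_card.mp hQp
  rw [hq] at hf
  have hf1 : 1 ≤ f := by
    rcases Nat.eq_zero_or_pos f with rfl | h
    · rw [pow_zero] at hf; omega
    · exact h
  have hcop : Nat.Coprime p (2 * k * (k - 1)) := by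
    have hpq : p ∣ 2 * k - 1 := by rw [hf]; exact dvd_pow_self p (by omega)
    have hodd : p ≠ 2 := fun e => by rw [e] at hpq; omega
    rw [hp.coprime_iff_not_dvd]
    intro h
    rcases (Nat.Prime.dvd_mul hp).mp h with h1 | h1
    · have h3 := Nat.dvd_sub h1 hpq
      rw [show 2 * k - (2 * k - 1) = 1 by omega] at h3
      exact hp.ne_one (Nat.dvd_one.mp h3)
    · have h3 := Nat.dvd_sub hpq (h1.mul_left 2)
      rw [show 2 * k - 1 - 2 * (k - 1) = 1 by omega] at h3
      exact hp.ne_one (Nat.dvd_one.mp h3)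
  have hsyl : ∀ P : Sylow p G, Nat.card P = 2 * k - 1 := by
    intro P
    obtain ⟨e, he⟩ := IsPGroup.iff_card.mp P.isPGroup'
    refine Nat.dvd_antisymm ?_ ?_
    · have h : Nat.card P ∣ 2 * k * (k - 1) * (2 * k - 1) := by
        have := Subgroup.card_subgroup_dvd_card (P : Subgroup G)
        rw [S.card_eq, hn, ← hk] at this
        rwa [show 2 * k * ((2 * k - 1) * (k - 1)) = 2 * k * (k - 1) * (2 * k - 1) by ring] at this
      rw [he] at h ⊢
      exact (hcop.pow_left e).dvd_of_dvd_mul_left h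
    · rw [hf]
      exact P.pow_dvd_card_of_pow_dvd_card (by rw [← hf, ← hq]; exact Subgroup.card_subgroup_dvd_card _)
  obtain ⟨P₀, hP₀⟩ := hQp.exists_le_sylow
  have hPQ : (P₀ : Subgroup G) = Q := (Subgroup.eq_of_le_of_card_ge hP₀ (by rw [hsyl, hq])).symm
  refine ⟨p, f, hp, hf, hf1, hsyl, fun x => ⟨fun h => ⟨h.1.1, 1, by rw [pow_one, hsame x h.1 h.2, hog]⟩, ?_⟩⟩
  rintro ⟨hx1, j, hj⟩
  have hxp : IsPGroup p (Subgroup.zpowers x) := IsPGroup.of_card (n := j) (by rw [Nat.card_zpowers, hj])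
  obtain ⟨P, hP⟩ := hxp.exists_le_sylow
  obtain ⟨w, hw⟩ := MulAction.exists_smul_eq G P P₀
  have hwx : w * x * w⁻¹ ∈ Q := by
    rw [← hPQ, ← hw, Sylow.coe_subgroup_smul]
    exact ⟨x, hP (Subgroup.mem_zpowers _), rfl⟩
  obtain ⟨ho, hni⟩ := hin _ hwx fun e => hx1 (by simpa using e)
  refine ⟨?_, fun h => hni (inverted_conj h w)⟩
  simpa [mul_assoc] using S.out_conj ho w⁻¹

end Setup

end Cfsg.Agent.Lib.BSW
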