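import Cfsg.Agent.Lib.BSW.Minus

/-!
The Sylow subgroups for the prime of `q = 2|K| - 1` have trivial intersections.
-/

set_option autoImplicit false

namespace Cfsg.Agent.Lib.BSW

open Cfsg.Agent.Lib

universe u

/-- Counting in a group with trivial-intersection self-normalising abelian tori: the Sylow
`p`-subgroups reduce to one. -/
theorem sylow_unique_of_local_tori {X : Type u} [Group X] [Fintype X] {p : ℕ} [Fact p.Prime]
    (h : ∀ (r : ℕ) (y : X), r.Prime → r ≠ p → orderOf y = r →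
      ∃ M : Subgroup X, y ∈ M ∧ 3 ≤ Nat.card M ∧ ¬ p ∣ Nat.card M ∧
        (∀ v ∈ M, ∀ w ∈ M, v * w = w * v) ∧
        ∀ g, ∀ w ∈ M, w ≠ 1 → g * w * g⁻¹ ∈ M → g ∈ M) (S₁ S₂ : Sylow p X) :
    S₁ = S₂ := by
  classical
  by_cases hp : IsPGroup p X
  · apply Sylow.ext
    have hu : ∀ S : Sylow p X, (S : Subgroup X) = ⊤ := fun S =>
      (S.is_maximal' (Q := ⊤) (hp.to_subgroup ⊤) le_top).symm
    rw [hu S₁, hu S₂]
  have hcount : ∀ M : Subgroup X, (∀ g, ∀ w ∈ M, w ≠ 1 → g * w * g⁻¹ ∈ M → g ∈ M) →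
      Nat.card M * (conjUnion M).card = Nat.card X * (Nat.card M - 1) := by
    intro M hM
    rw [card_conjUnion M M (fun g hg a ha => M.mul_mem (M.mul_mem hg ha) (M.inv_mem hg)) hM,
      ← card_puncture]
    simp
  -- a prime other than `p`
  obtain ⟨r₀, hr₀, hr₀X, hr₀p⟩ : ∃ r : ℕ, r.Prime ∧ r ∣ Nat.card X ∧ r ≠ p := by
    by_contra hcon
    push Not at hcon
    refine hp (IsPGroup.of_card (n := (Nat.card X).primeFactorsList.length) ?_)
    exact Nat.eq_prime_pow_of_unique_prime_dvd Nat.card_pos.ne' fun {d} hd hdd => hcon d hd hdd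
  haveI : Fact r₀.Prime := ⟨hr₀⟩
  obtain ⟨y₀, hy₀⟩ := exists_prime_orderOf_dvd_card' (G := X) r₀ hr₀X
  obtain ⟨M, -, hM3, hMp, -, hM⟩ := h r₀ y₀ hr₀ hr₀p hy₀
  set T := (Finset.univ : Finset X) \ conjUnion M with hT
  have hTc : T.card * Nat.card M = Nat.card X := by
    have hsum : T.card + (conjUnion M).card = Nat.card X := by
      rw [hT, Finset.card_sdiff_add_card_eq_card (Finset.subset_univ _), Finset.card_univ,
        Nat.card_eq_fintype_card]
    have hm := hcount M hM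
    obtain ⟨j, hj⟩ : ∃ j, Nat.card M = j + 1 := ⟨Nat.card M - 1, by omega⟩
    rw [hj, Nat.add_sub_cancel] at hm
    rw [hj]
    nlinarith
  -- all the tori are conjugate to M
  have hone : ∀ (r : ℕ) (y : X), r.Prime → r ≠ p → orderOf y = r → y ∈ conjUnion M := by
    intro r y hr hrp hy
    obtain ⟨M', hyM', hM'3, -, hM'ab, hM'⟩ := h r y hr hrp hy
    by_contra hyn
    have hy1 : y ≠ 1 := fun e => by rw [e, orderOf_one] at hy; exact hr.one_lt.ne hy
    have hsub : conjUnion M' ⊆ T := by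
      intro x hx
      refine Finset.mem_sdiff.mpr ⟨Finset.mem_univ _, fun hx' => hyn ?_⟩
      obtain ⟨hx1, a, ha⟩ := mem_conjUnion.mp hx'
      obtain ⟨-, b, hb⟩ := mem_conjUnion.mp hx
      have hne : ∀ c : X, c * x * c⁻¹ ≠ 1 := fun c e => hx1 (by simpa using e)
      have hcen : ∀ (N : Subgroup X), (∀ g, ∀ w ∈ N, w ≠ 1 → g * w * g⁻¹ ∈ N → g ∈ N) →
          ∀ w ∈ N, w ≠ 1 → ∀ g, g * w = w * g → g ∈ N := fun N hN w hw hw1 g hg =>
        hN g w hw hw1 (by rw [hg, mul_inv_cancel_right]; exact hw)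
      refine mem_conjUnion.mpr ⟨hy1, a * b⁻¹, ?_⟩
      refine hcen M hM _ ha (hne a) _ ?_
      calc a * b⁻¹ * y * (a * b⁻¹)⁻¹ * (a * x * a⁻¹)
          = a * b⁻¹ * (y * (b * x * b⁻¹)) * b * a⁻¹ := by group
        _ = a * b⁻¹ * ((b * x * b⁻¹) * y) * b * a⁻¹ := by rw [hM'ab y hyM' _ hb]
        _ = a * x * a⁻¹ * (a * b⁻¹ * y * (a * b⁻¹)⁻¹) := by group
    have h1 := Finset.card_le_card hsub
    have h1T : (1 : X) ∈ T := Finset.mem_sdiff.mpr ⟨Finset.mem_univ _, fun e => (mem_conjUnion.mp e).1 rfl⟩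
    have h2 : (conjUnion M').card < T.card := by
      refine Finset.card_lt_card (Finset.ssubset_iff_of_subset hsub |>.mpr ⟨1, h1T, ?_⟩)
      exact fun e => (mem_conjUnion.mp e).1 rfl
    have hm := hcount M' hM'
    obtain ⟨j, hj⟩ : ∃ j, Nat.card M' = j + 1 := ⟨Nat.card M' - 1, by omega⟩
    rw [hj, Nat.add_sub_cancel] at hm
    have h3 : (j + 1) * (conjUnion M').card * Nat.card M < (j + 1) * T.card * Nat.card M := by
      have : 0 < Nat.card M := by omega
      gcongr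
    rw [hm, mul_assoc, mul_assoc (j + 1), hTc, mul_comm (j + 1), Nat.mul_lt_mul_left Nat.card_pos] at h3
    have : j * 3 ≤ j * Nat.card M := Nat.mul_le_mul_left j hM3
    omega
  -- M contains full Sylow subgroups for the other primes
  have hfull : ∀ r : ℕ, r.Prime → r ≠ p → ¬ r ∣ M.index := by
    intro r hr hrp hri
    haveI : Fact r.Prime := ⟨hr⟩
    obtain ⟨y, hy⟩ := exists_prime_orderOf_dvd_card' (G := X) r (hri.trans M.index_dvd_card)
    obtain ⟨hy1, c, hc⟩ := mem_conjUnion.mp (hone r y hr hrp hy)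
    set y' := c * y * c⁻¹ with hy'
    have hy'o : orderOf y' = r := by rw [hy', Setup.orderOf_conj', hy]
    have hy'p : IsPGroup r (Subgroup.zpowers y') :=
      IsPGroup.of_card (n := 1) (by rw [Nat.card_zpowers, hy'o, pow_one])
    obtain ⟨R, hR⟩ := hy'p.exists_le_sylow
    have hy'R : y' ∈ (R : Subgroup X) := hR (Subgroup.mem_zpowers _)
    have hy'1 : y' ≠ 1 := fun e => by rw [e, orderOf_one] at hy'o; exact hr.one_lt.ne hy'o
    haveI : Nontrivial (R : Subgroup X) := ⟨⟨⟨y', hy'R⟩, 1, fun e => hy'1 (congrArg Subtype.val e)⟩⟩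
    haveI := R.isPGroup'.center_nontrivial
    obtain ⟨z, hz1⟩ := exists_ne (1 : Subgroup.center (R : Subgroup X))
    have hzc : ∀ w ∈ (R : Subgroup X), w * ((z : (R : Subgroup X)) : X) = ((z : (R : Subgroup X)) : X) * w :=
      fun w hw => congrArg Subtype.val (Subgroup.mem_center_iff.mp z.2 ⟨w, hw⟩)
    have hzM : ((z : (R : Subgroup X)) : X) ∈ M :=
      hM _ y' hc hy'1 (by rw [← hzc y' hy'R, mul_inv_cancel_right]; exact hc)
    have hRM : (R : Subgroup X) ≤ M := fun w hw =>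
      hM w _ hzM (fun e => hz1 (Subtype.ext (Subtype.ext e))) (by rw [hzc w hw, mul_inv_cancel_right]; exact hzM)
    obtain ⟨e, he⟩ := IsPGroup.iff_card.mp R.isPGroup'
    have h1 : r ^ (e + 1) ∣ Nat.card X := by
      rw [← Subgroup.card_mul_index M, pow_succ]
      exact mul_dvd_mul (he ▸ Subgroup.card_dvd_of_le hRM) hri
    have h2 := R.pow_dvd_card_of_pow_dvd_card h1
    rw [he, Nat.pow_dvd_pow_iff_le_right hr.one_lt] at h2
    omega
  have hTM : T.card = M.index := by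
    apply Nat.eq_of_mul_eq_mul_right (Nat.card_pos (α := M))
    rw [hTc, mul_comm M.index, Subgroup.card_mul_index]
  obtain ⟨b, hb⟩ : ∃ b, M.index = p ^ b := ⟨_, Nat.eq_prime_pow_of_unique_prime_dvd
    Subgroup.index_ne_zero_of_finite fun {d} hd hdd => by
      by_contra hdp
      exact hfull d hd hdp hdd⟩
  have hall : ∀ S : Sylow p X, (Finset.univ.filter fun x => x ∈ (S : Subgroup X)) = T := by
    intro S
    refine Finset.eq_of_subset_of_card_le (fun x hx => ?_) ?_
    · refine Finset.mem_sdiff.mpr ⟨Finset.mem_univ _, fun hxc => ?_⟩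
      obtain ⟨hx1, c, hc⟩ := mem_conjUnion.mp hxc
      obtain ⟨j, hj⟩ := IsPGroup.iff_orderOf.mp S.isPGroup' ⟨x, (Finset.mem_filter.mp hx).2⟩
      rw [← Subgroup.orderOf_coe] at hj
      have hd := Subgroup.orderOf_dvd_natCard _ hc
      rw [Setup.orderOf_conj', hj] at hd
      rcases Nat.eq_zero_or_pos j with rfl | hj0
      · rw [pow_zero, orderOf_eq_one_iff] at hj; exact hx1 hj
      · exact hMp ((dvd_pow_self p hj0.ne').trans hd)
    · rw [hTM, hb, ← Fintype.card_subtype, ← Nat.card_eq_fintype_card]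
      exact Nat.le_of_dvd Nat.card_pos (S.pow_dvd_card_of_pow_dvd_card (hb ▸ M.index_dvd_card))
  refine Sylow.ext (SetLike.ext fun x => ?_)
  have h12 := (hall S₁).trans (hall S₂).symm
  have := Finset.ext_iff.mp h12 x
  simpa using this

end Cfsg.Agent.Lib.BSW
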