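import Cfsg.Agent.Lib.BSW.Small

/-!
The Brauer–Suzuki–Wall configuration with `q = 2|K| + 1`.
-/

set_option autoImplicit false

namespace Cfsg.Agent.Lib.BSW

open Cfsg.Agent.Lib

universe u

theorem eq_or_eq_of_factor {k m r : ℕ} (hk : 2 ≤ k) (hm1 : 1 < m) (hr : r ≠ 1)
    (hmk : (k : ℤ) ∣ (m : ℤ) - 1) (h : m * r = (2 * k + 1) * (k + 1)) :
    m = 2 * k + 1 ∨ m = k + 1 := by
  obtain ⟨l, hl⟩ := hmk
  have h' : (m : ℤ) * r = (2 * (k : ℤ) + 1) * ((k : ℤ) + 1) := by exact_mod_cast h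
  have hm : (m : ℤ) = k * l + 1 := by linarith
  rw [hm] at h'
  obtain ⟨p, hp⟩ : (k : ℤ) ∣ (r : ℤ) - 1 := ⟨2 * k + 3 - l * r, by linear_combination h'⟩
  have hr' : (r : ℤ) = k * p + 1 := by linarith
  rw [hr'] at h'
  have hmain : (k : ℤ) * l * p + l + p = 2 * k + 3 := by
    apply mul_left_cancel₀ (show ((k : ℤ)) ≠ 0 by omega)
    linear_combination h'
  have hl1 : 1 ≤ l := by
    by_contra hc
    push Not at hc
    nlinarith [show (1 : ℤ) < m by exact_mod_cast hm1]
  have hrpos : r ≠ 0 := by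
    rintro rfl
    rw [mul_zero] at h
    exact absurd h.symm (Nat.mul_ne_zero (by omega) (by omega))
  have hp1 : 1 ≤ p := by
    have : (2 : ℤ) ≤ r := by omega
    nlinarith
  have hlp : l * p ≤ 2 := by nlinarith
  have hl2 : l ≤ 2 := by nlinarith
  have hp2 : p ≤ 2 := by nlinarith
  interval_cases l <;> interval_cases p <;> omega

namespace Setup

variable {G : Type u} [Group G] [Fintype G] (S : Setup G)

/-- The normalisers of the non-trivial subgroups of a conjugate of `K`. -/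
theorem conjK_property (c : G) (X : Subgroup G) (hX : X ≤ S.K.map (MulAut.conj c).toMonoidHom)
    (hX1 : X ≠ ⊥) :
    Subgroup.normalizer (X : Set G) =
      Subgroup.normalizer ((S.K.map (MulAut.conj c).toMonoidHom) : Set G) ∧
      ∃ u : G, orderOf u = 2 ∧ u ∉ S.K.map (MulAut.conj c).toMonoidHom ∧
        (∀ d ∈ S.K.map (MulAut.conj c).toMonoidHom, u * d * u⁻¹ = d⁻¹) ∧
        Subgroup.normalizer ((S.K.map (MulAut.conj c).toMonoidHom) : Set G)
          = S.K.map (MulAut.conj c).toMonoidHom ⊔ Subgroup.zpowers u := by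
  set D := S.K.map (MulAut.conj c).toMonoidHom with hD
  have memD : ∀ d, d ∈ D ↔ c⁻¹ * d * c ∈ S.K := fun d => by
    rw [hD, Subgroup.mem_map]
    refine ⟨?_, fun h => ⟨_, h, by simp [mul_assoc]⟩⟩
    rintro ⟨a, ha, rfl⟩
    simpa [mul_assoc] using ha
  set u := c * S.s * c⁻¹ with hu
  have hu2 : orderOf u = 2 := by rw [hu, orderOf_conj', S.hs]
  have hinv : ∀ d ∈ D, u * d * u⁻¹ = d⁻¹ := fun d hd => by
    have := S.hinv _ ((memD d).mp hd)
    calc u * d * u⁻¹ = c * (S.s * (c⁻¹ * d * c) * S.s⁻¹) * c⁻¹ := by rw [hu]; group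
      _ = d⁻¹ := by rw [this]; group
  have hcomm : ∀ a ∈ D, ∀ b ∈ D, a * b = b * a := fun a ha b hb => by
    have := S.hKab _ ((memD a).mp ha) _ ((memD b).mp hb)
    calc a * b = c * ((c⁻¹ * a * c) * (c⁻¹ * b * c)) * c⁻¹ := by group
      _ = b * a := by rw [this]; group
  -- every subgroup of D is normalised
  have hsub : ∀ Y : Subgroup G, Y ≤ D → ∀ h ∈ D ⊔ Subgroup.zpowers u, h ∈ Subgroup.normalizer (Y : Set G) := by
    intro Y hY h hh
    have h1 : D ≤ Subgroup.normalizer (Y : Set G) := fun d hd => by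
      rw [Subgroup.mem_normalizer_iff]
      intro y
      constructor
      · intro hy
        rw [hcomm d hd y (hY hy), mul_inv_cancel_right]; exact hy
      · intro hy
        have e := hcomm d⁻¹ (D.inv_mem hd) _ (hY hy)
        have : y = d * y * d⁻¹ := by
          calc y = d⁻¹ * (d * y * d⁻¹) * d := by group
            _ = (d * y * d⁻¹) * d⁻¹ * d := by rw [e]
            _ = d * y * d⁻¹ := by group
        rw [this]; exact hy
    have h2 : u ∈ Subgroup.normalizer (Y : Set G) := by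
      rw [Subgroup.mem_normalizer_iff]
      intro y
      constructor
      · intro hy
        rw [hinv y (hY hy)]; exact Y.inv_mem hy
      · intro hy
        have e := hinv _ (hY hy)
        have huu := Involution.mul_self_eq_one hu2
        rw [Involution.inv_eq_self huu] at e hy
        rw [show u * (u * y * u) * u = (u * u) * y * (u * u) by group, huu, one_mul, mul_one] at e
        rw [e]; exact Y.inv_mem hy
    exact (sup_le h1 (Subgroup.zpowers_le.mpr h2)) hh
  -- conversely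
  have hle : ∀ Y : Subgroup G, Y ≤ D → Y ≠ ⊥ → ∀ h ∈ Subgroup.normalizer (Y : Set G),
      h ∈ D ⊔ Subgroup.zpowers u := by
    intro Y hY hY1 h hh
    haveI := (Subgroup.nontrivial_iff_ne_bot Y).mpr hY1
    obtain ⟨⟨y, hy⟩, hy1'⟩ := exists_ne (1 : Y)
    have hy1 : y ≠ 1 := fun e => hy1' (Subtype.ext e)
    have hy' := (Subgroup.mem_normalizer_iff.mp hh y).mp hy
    have hc := S.hTI (c⁻¹ * h * c) (c⁻¹ * y * c) ((memD y).mp (hY hy))
      (fun e => hy1 (calc y = c * (c⁻¹ * y * c) * c⁻¹ := by group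
        _ = 1 := by rw [e]; group)) (by
        have := (memD _).mp (hY hy')
        simpa [mul_assoc] using this)
    rcases S.hH _ hc with h' | h'
    · exact Subgroup.mem_sup_left ((memD h).mpr h')
    · have huh : u * h ∈ D := (memD _).mpr (by
        have e : c⁻¹ * (u * h) * c = S.s * (c⁻¹ * h * c) := by rw [hu]; group
        rw [e]; exact h')
      have e : h = u * (u * h) := by
        rw [← mul_assoc, Involution.mul_self_eq_one hu2, one_mul]
      rw [e]
      exact Subgroup.mul_mem _ (Subgroup.mem_sup_right (Subgroup.mem_zpowers u)) (Subgroup.mem_sup_left huh)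
  have hN : ∀ Y : Subgroup G, Y ≤ D → Y ≠ ⊥ → Subgroup.normalizer (Y : Set G) = D ⊔ Subgroup.zpowers u :=
    fun Y hY hY1 => le_antisymm (hle Y hY hY1) (hsub Y hY)
  have hD1 : D ≠ ⊥ := fun e => hX1 (le_bot_iff.mp (e ▸ hX))
  refine ⟨by rw [hN X hX hX1, hN D le_rfl hD1], u, hu2, ?_, hinv, hN D le_rfl hD1⟩
  rw [memD, hu]
  intro h
  apply S.hsK
  simpa [mul_assoc] using h

theorem exists_plus (hn : (Subgroup.centralizer ({S.t} : Set G)).index = (2 * Nat.card S.K + 1) * (Nat.card S.K + 1))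
    (hall : ∀ g, S.Out g → Inverted g ∧
      (Nat.card S.K : ℤ) ∣ (Nat.card (Subgroup.centralizer ({g} : Set G)) : ℤ) - 1) :
    ∃ Q D : Subgroup G, 2 * Nat.card G = Nat.card Q * (Nat.card Q + 1) * (Nat.card Q - 1) ∧
      (∀ x ∈ Q, x ≠ 1 → Subgroup.centralizer ({x} : Set G) = Q) ∧
      IsMulCommutative D ∧ 2 * Nat.card D + 1 = Nat.card Q ∧ Q ⊓ D = ⊥ ∧
      Subgroup.normalizer (Q : Set G) = Q ⊔ D ∧
      ∀ X : Subgroup G, X ≤ D → X ≠ ⊥ →
        Subgroup.normalizer (X : Set G) = Subgroup.normalizer (D : Set G) ∧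
        ∃ u : G, orderOf u = 2 ∧ u ∉ D ∧ (∀ d ∈ D, u * d * u⁻¹ = d⁻¹) ∧
          Subgroup.normalizer (D : Set G) = D ⊔ Subgroup.zpowers u := by
  classical
  set k := Nat.card S.K with hk
  have hk2 : 2 ≤ k := Nat.le_of_dvd Nat.card_pos S.even_card_K
  have hval : ∀ g, S.Out g → Nat.card (Subgroup.centralizer ({g} : Set G)) = 2 * k + 1 ∨
      Nat.card (Subgroup.centralizer ({g} : Set G)) = k + 1 := by
    intro g hg
    obtain ⟨hi, hmk⟩ := hall g hg
    obtain ⟨r, hr⟩ := S.dvd_index_of_out hg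
    refine eq_or_eq_of_factor hk2 (S.one_lt_card_centralizer hg) ?_ hmk (by rw [← hr, hn])
    rintro rfl
    rw [mul_one] at hr
    exact S.card_ne_index hg hi hr.symm
  set R := S.outSet.filter fun g => Nat.card (Subgroup.centralizer ({g} : Set G)) = 2 * k + 1 with hR
  have hRc : R.card = 4 * k * (k + 1) := by
    have h1 := S.card_outSet
    have h2 := S.sum_nPairs_out
    rw [Finset.sum_congr rfl (g := fun g => Nat.card (Subgroup.centralizer ({g} : Set G)))
      fun g hg => S.nPairs_inverted (S.mem_outSet.mp hg) (hall g (S.mem_outSet.mp hg)).1,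
      ← Finset.sum_filter_add_sum_filter_not S.outSet
        (fun g => Nat.card (Subgroup.centralizer ({g} : Set G)) = 2 * k + 1),
      Finset.sum_congr rfl (g := fun _ => 2 * k + 1) fun g hg => (Finset.mem_filter.mp hg).2,
      Finset.sum_congr rfl (g := fun _ => k + 1) fun g hg =>
        (hval g (S.mem_outSet.mp (Finset.mem_filter.mp hg).1)).resolve_left (Finset.mem_filter.mp hg).2,
      Finset.sum_const, Finset.sum_const, smul_eq_mul, smul_eq_mul, hn, ← hk] at h2
    rw [← Finset.card_filter_add_card_filter_not (s := S.outSet)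
      (fun g => Nat.card (Subgroup.centralizer ({g} : Set G)) = 2 * k + 1), hn, ← hk] at h1
    rw [← hR] at h1 h2
    push_cast at h1 h2
    have : (k : ℤ) * R.card = k * (4 * k * (k + 1)) := by linear_combination h2 - ((k : ℤ) + 1) * h1
    have := mul_left_cancel₀ (show ((k : ℤ)) ≠ 0 by omega) this
    exact_mod_cast this
  obtain ⟨g, hg⟩ : R.Nonempty := by rw [← Finset.card_pos, hRc]; positivity
  obtain ⟨hgO, hgq⟩ := Finset.mem_filter.mp hg
  have hgo := S.mem_outSet.mp hgO
  have hgi := (hall g hgo).1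
  obtain ⟨u, hu, hug⟩ := hgi
  obtain ⟨E, -, -, hEQ, hsup, hcard, -, hEk, c, hEc⟩ := S.torus_normalizer hgo hu hug
  set Q := Subgroup.centralizer ({g} : Set G) with hQ
  have hsub : conjUnion Q ⊆ R := fun x hx => by
    obtain ⟨ho, -, hc⟩ := S.card_centralizer_of_mem_conjUnion hgo ⟨u, hu, hug⟩ hx
    exact Finset.mem_filter.mpr ⟨S.mem_outSet.mpr ho, hc.trans hgq⟩
  have hcu := S.card_conjUnion_torus hgo ⟨u, hu, hug⟩
  rw [← hQ, hcard, hgq, S.card_eq, hn, ← hk, Nat.add_sub_cancel] at hcu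
  have hle := Finset.card_le_card hsub
  rw [hRc] at hle
  have hEK : Nat.card E = k := by
    refine le_antisymm (Nat.le_of_dvd (by omega) hEk) ?_
    have h1 := Nat.mul_le_mul_left ((2 * k + 1) * Nat.card E) hle
    rw [hcu] at h1
    have h2 : (4 * k * (k + 1) * (2 * k + 1)) * k ≤ (4 * k * (k + 1) * (2 * k + 1)) * Nat.card E :=
      le_trans (le_of_eq (by ring)) (h1.trans (le_of_eq (by ring)))
    exact Nat.le_of_mul_le_mul_left h2 (by positivity)
  have hED : E = S.K.map (MulAut.conj c).toMonoidHom := by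
    refine Subgroup.eq_of_le_of_card_ge hEc ?_
    rw [hEK, hk, ← Nat.card_congr (S.K.equivMapOfInjective _ (MulEquiv.injective _)).toEquiv]
  refine ⟨Q, E, ?_, fun x hx hx1 => S.centralizer_eq hgo ⟨u, hu, hug⟩ hx hx1, ?_, ?_, ?_, hsup, ?_⟩
  · rw [S.card_eq, hn, ← hk, hgq]
    simp only [Nat.add_sub_cancel]
    ring
  · constructor; constructor
    rintro ⟨a, ha⟩ ⟨b, hb⟩
    obtain ⟨a', ha', rfl⟩ := hEc ha
    obtain ⟨b', hb', rfl⟩ := hEc hb
    apply Subtype.ext
    simp only [MulEquiv.coe_toMonoidHom, MulMemClass.coe_mul, ← map_mul, S.hKab a' ha' b' hb']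
  · rw [hEK, hgq]
  · rw [inf_comm]; exact hEQ
  · intro X hX hX1
    rw [hED] at hX ⊢
    exact S.conjK_property c X hX hX1

end Setup

end Cfsg.Agent.Lib.BSW
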