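import Mathlib
import Cfsg.Agent.Lib.Perm.ZassenhausPGL

/-!
Recognition of `PSL₂(q)`, `q` odd, from the structure given by the theorem of Brauer, Suzuki and Wall.
-/

set_option autoImplicit false

namespace Cfsg.Agent.Lib.BSW

open MulAction
open Cfsg.Agent.Lib.Perm
open Cfsg.Agent.Lib.Perm.Zassenhaus Cfsg.Agent.Lib.Perm.AffineCoords

universe u

variable {G : Type u} [Group G] [Finite G]

/-- A group with the structure of the conclusion of the theorem is `PSL₂(q)`. -/
theorem exists_mulEquiv_PSL (Q D : Subgroup G)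
    (hord : 2 * Nat.card G = Nat.card Q * (Nat.card Q + 1) * (Nat.card Q - 1))
    (hCQ : ∀ x ∈ Q, x ≠ 1 → Subgroup.centralizer ({x} : Set G) = Q)
    (hDab : IsMulCommutative D) (hqd : 2 * Nat.card D + 1 = Nat.card Q) (hQD : Q ⊓ D = ⊥)
    (hN : Subgroup.normalizer (Q : Set G) = Q ⊔ D)
    (hX : ∀ X : Subgroup G, X ≤ D → X ≠ ⊥ →
        Subgroup.normalizer (X : Set G) = Subgroup.normalizer (D : Set G) ∧
        ∃ u : G, orderOf u = 2 ∧ u ∉ D ∧ (∀ d ∈ D, u * d * u⁻¹ = d⁻¹) ∧
          Subgroup.normalizer (D : Set G) = D ⊔ Subgroup.zpowers u) :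
    ∃ (F : Type) (_ : Field F) (_ : Fintype F), Odd (Fintype.card F) ∧
      Nonempty (G ≃* Matrix.ProjectiveSpecialLinearGroup (Fin 2) F) := by
  classical
  set N := Subgroup.normalizer (Q : Set G) with hNdef
  have hQN : Q ≤ N := Subgroup.le_normalizer
  have hDN : D ≤ N := hN ▸ le_sup_right
  have hd0 : 0 < Nat.card D := Nat.card_pos
  have hQab : ∀ a ∈ Q, ∀ b ∈ Q, a * b = b * a := by
    intro a ha b hb
    rcases eq_or_ne a 1 with rfl | ha1
    · simp
    · have hb' : b ∈ Subgroup.centralizer ({a} : Set G) := (hCQ a ha ha1).symm ▸ hb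
      exact (Subgroup.mem_centralizer_singleton_iff.mp hb').symm
  haveI hQn : (Q.subgroupOf N).Normal := Subgroup.normal_subgroupOf_of_le_normalizer le_rfl
  have hcardN : Nat.card N = Nat.card Q * Nat.card D := by
    have hmul : ∀ x ∈ N, ∃ a ∈ Q, ∃ b ∈ D, x = a * b := by
      intro x hx
      have hx' : x ∈ ((Q ⊔ D : Subgroup G) : Set G) := hN ▸ hx
      rw [Subgroup.coe_mul_of_right_le_normalizer_left Q D hDN] at hx'
      obtain ⟨a, ha, b, hb, rfl⟩ := hx'
      exact ⟨a, ha, b, hb, rfl⟩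
    rw [← Nat.card_prod]
    refine (Nat.card_congr (Equiv.ofBijective
      (fun ab : Q × D => (⟨(ab.1 : G) * ab.2, N.mul_mem (hQN ab.1.2) (hDN ab.2.2)⟩ : N))
      ⟨fun ab cd h => ?_, fun x => ?_⟩)).symm
    · have h' := congrArg Subtype.val h
      exact Subgroup.mul_injective_of_disjoint (disjoint_iff.mpr hQD) h'
    · obtain ⟨a, ha, b, hb, h⟩ := hmul x x.2
      exact ⟨(⟨a, ha⟩, ⟨b, hb⟩), Subtype.ext h.symm⟩
  have hidx : N.index = Nat.card Q + 1 := by
    have h := Subgroup.card_mul_index N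
    rw [hcardN] at h
    have hq : Nat.card Q - 1 = 2 * Nat.card D := by omega
    rw [hq, ← h] at hord
    refine Nat.eq_of_mul_eq_mul_left
      (Nat.mul_pos two_pos (Nat.mul_pos (Nat.card_pos (α := Q)) hd0)) ?_
    linarith
  haveI : Fintype (G ⧸ N) := Fintype.ofFinite _
  have hcardΩ : Fintype.card (G ⧸ N) = Nat.card Q + 1 := by
    rw [← Nat.card_eq_fintype_card, ← Subgroup.index_eq_card, hidx]
  set p : G ⧸ N := ((1 : G) : G ⧸ N) with hp
  have hstab : stabilizer G p = N := stabilizer_quotient N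
  have hpN : ∀ g : G, g • p = p ↔ g ∈ N := fun g => by rw [← mem_stabilizer_iff, hstab]
  have hmk : ∀ g : G, g • p = (g : G ⧸ N) := fun g => by
    rw [hp, Quotient.smul_coe, smul_eq_mul, mul_one]
  have hQp : ∀ x ∈ Q, x • p = p := fun x hx => (hpN x).mpr (hQN hx)
  -- `Q` is semiregular away from `p`
  have hsemi : ∀ x ∈ Q, ∀ y : G ⧸ N, y ≠ p → x • y = y → x = 1 := by
    intro x hx y hy hxy
    obtain ⟨g, rfl⟩ := QuotientGroup.mk_surjective y
    have hgN : g ∉ N := fun hg => hy (by rw [← hmk, (hpN g).mpr hg])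
    by_contra hx1
    rw [Quotient.smul_coe, smul_eq_mul, QuotientGroup.eq, mul_inv_rev] at hxy
    have hyN : g⁻¹ * x * g ∈ N := by
      have := N.inv_mem hxy
      simpa [mul_assoc] using this
    have hyQ : g⁻¹ * x * g ∈ Q := by
      have h1 : (⟨_, hyN⟩ : N) ^ Nat.card Q = 1 := Subtype.ext (by
        have hxq : x ^ Nat.card Q = 1 :=
          congrArg Subtype.val (pow_card_eq_one' (x := (⟨x, hx⟩ : Q)))
        rw [SubgroupClass.coe_pow, Subgroup.coe_one]
        have := map_pow (MulAut.conj g⁻¹) x (Nat.card Q)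
        rw [hxq, map_one, MulAut.conj_apply, inv_inv] at this
        exact this.symm)
      have h2 : (⟨_, hyN⟩ : N) ^ Nat.card D ∈ Q.subgroupOf N := by
        have hi : (Q.subgroupOf N).index = Nat.card D := by
          have h3 := Subgroup.card_mul_index (Q.subgroupOf N)
          rw [Nat.card_congr (Subgroup.subgroupOfEquivOfLe hQN).toEquiv, hcardN] at h3
          exact Nat.eq_of_mul_eq_mul_left Nat.card_pos h3
        rw [← hi]
        exact Subgroup.pow_index_mem _ _
      have hco : (Nat.card Q).Coprime (Nat.card D) := by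
        rw [← hqd, Nat.coprime_comm, mul_comm]
        exact (Nat.coprime_mul_left_add_right (Nat.card D) 1 2).mpr (Nat.coprime_one_right _)
      have h4 : (⟨_, hyN⟩ : N) ∈ Q.subgroupOf N := by
        have hb : (1 : ℤ) = (Nat.card Q : ℤ) * Nat.gcdA (Nat.card Q) (Nat.card D) +
            (Nat.card D : ℤ) * Nat.gcdB (Nat.card Q) (Nat.card D) := by
          rw [← Nat.gcd_eq_gcd_ab, hco.gcd_eq_one, Nat.cast_one]
        rw [← zpow_one (⟨_, hyN⟩ : N), hb, zpow_add, zpow_mul, zpow_mul, zpow_natCast, zpow_natCast,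
          h1, one_zpow, one_mul]
        exact Subgroup.zpow_mem _ h2 _
      exact Subgroup.mem_subgroupOf.mp h4
    have hy1 : g⁻¹ * x * g ≠ 1 := fun h => hx1 (by
      calc x = g * (g⁻¹ * x * g) * g⁻¹ := by group
        _ = 1 := by rw [h]; group)
    refine hgN ?_
    rw [hNdef, Subgroup.mem_normalizer_iff]
    intro a
    nth_rw 1 [← hCQ _ hyQ hy1]
    rw [← hCQ x hx hx1, Subgroup.mem_centralizer_singleton_iff,
      Subgroup.mem_centralizer_singleton_iff]
    constructor <;> intro h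
    · calc g * a * g⁻¹ * x = g * (a * (g⁻¹ * x * g)) * g⁻¹ := by group
        _ = g * ((g⁻¹ * x * g) * a) * g⁻¹ := by rw [h]
        _ = x * (g * a * g⁻¹) := by group
    · calc a * (g⁻¹ * x * g) = g⁻¹ * (g * a * g⁻¹ * x) * g := by group
        _ = g⁻¹ * (x * (g * a * g⁻¹)) * g := by rw [h]
        _ = g⁻¹ * x * g * a := by group
  have hne : ∀ y : G ⧸ N, y ≠ p → ∀ x ∈ Q, x • y ≠ p := fun y hy x hx h => hy (by
    rw [← inv_smul_smul x y, h, hQp _ (Q.inv_mem hx)])
  have hreg : ∀ y z : G ⧸ N, y ≠ p → z ≠ p → ∃! t : Q, (t : G) • y = z := by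
    intro y z hy hz
    let f : Q → {w : G ⧸ N // w ≠ p} := fun t => ⟨(t : G) • y, hne y hy t t.2⟩
    haveI : Fintype Q := Fintype.ofFinite _
    have hinj : Function.Injective f := fun a b hab => by
      have h : (a : G) • y = (b : G) • y := congrArg Subtype.val hab
      refine Subtype.ext (inv_mul_eq_one.mp (hsemi _ (Q.mul_mem (Q.inv_mem a.2) b.2) y hy
        (by rw [mul_smul, ← h, inv_smul_smul])))
    have hbij : Function.Bijective f := by
      rw [Fintype.bijective_iff_injective_and_card]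
      refine ⟨hinj, ?_⟩
      simp only [ne_eq, Fintype.card_subtype_compl, Fintype.card_subtype_eq, hcardΩ,
        Nat.add_sub_cancel, Nat.card_eq_fintype_card]
    obtain ⟨t, ht, htu⟩ := hbij.existsUnique ⟨z, hz⟩
    exact ⟨t, congrArg Subtype.val ht, fun b hb => htu b (Subtype.ext hb)⟩
  have hT : IsKernel Q p :=
    ⟨fun x hx => mem_stabilizer_iff.mpr (hQp x hx),
      fun g hg t ht => (Subgroup.mem_normalizer_iff.mp (show g ∈ N by rwa [← hstab]) t).mp ht,
      hQab, hreg⟩
  have htrans : ∀ a b : G ⧸ N, a ≠ b → ∀ c : G ⧸ N, c ≠ p → ∃ g : G, g • a = p ∧ g • b = c := by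
    intro a b hab c hc
    obtain ⟨g, rfl⟩ := QuotientGroup.mk_surjective a
    have hb : g⁻¹ • b ≠ p := fun h => hab (by rw [← hmk, ← h, smul_inv_smul])
    obtain ⟨t, ht, -⟩ := hreg _ _ hb hc
    refine ⟨(t : G) * g⁻¹, ?_, by rw [mul_smul, ht]⟩
    rw [mul_smul, ← hmk, inv_smul_smul, hQp _ t.2]
  have hinvol : ∀ v ∈ N, v * v = 1 → v ∈ Subgroup.normalizer (D : Set G) → v ∈ D := by
    intro v hv hv2 hvn
    have hv' : v ∈ ((Q ⊔ D : Subgroup G) : Set G) := hN ▸ hv
    rw [Subgroup.coe_mul_of_right_le_normalizer_left Q D hDN] at hv'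
    obtain ⟨a, ha, b, hb, rfl⟩ := hv'
    rw [SetLike.mem_coe] at ha hb
    change a * b ∈ N at hv
    change a * b * (a * b) = 1 at hv2
    change a * b ∈ Subgroup.normalizer (D : Set G) at hvn
    show a * b ∈ D
    have han : a ∈ Subgroup.normalizer (D : Set G) := by
      have := Subgroup.mul_mem _ hvn (Subgroup.inv_mem _ (Subgroup.le_normalizer hb))
      simpa using this
    have hac : a * b = b * a := by
      have h1 : a * b * a⁻¹ * b⁻¹ ∈ D :=
        D.mul_mem ((Subgroup.mem_normalizer_iff.mp han b).mp hb) (D.inv_mem hb)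
      have h2 : a * b * a⁻¹ * b⁻¹ ∈ Q := by
        have := (Subgroup.mem_normalizer_iff.mp (hDN hb) a⁻¹).mp (Q.inv_mem ha)
        simpa [mul_assoc] using Q.mul_mem ha this
      have := (Subgroup.mem_bot).mp (hQD ▸ Subgroup.mem_inf.mpr ⟨h2, h1⟩)
      rw [mul_inv_eq_one, mul_inv_eq_iff_eq_mul] at this
      exact this
    have h3 : (a * a) * (b * b) = 1 := by
      rw [← hv2]
      calc a * a * (b * b) = a * (a * b) * b := by group
        _ = a * (b * a) * b := by rw [hac]
        _ = a * b * (a * b) := by group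
    have h4 : a * a = 1 := by
      refine (Subgroup.mem_bot).mp (hQD ▸ Subgroup.mem_inf.mpr ⟨Q.mul_mem ha ha, ?_⟩)
      rw [eq_inv_of_mul_eq_one_left h3]
      exact D.inv_mem (D.mul_mem hb hb)
    have h5 : orderOf (⟨a, ha⟩ : Q) ∣ Nat.gcd 2 (Nat.card Q) :=
      Nat.dvd_gcd (orderOf_dvd_of_pow_eq_one (Subtype.ext (by rw [pow_two]; exact h4)))
        (orderOf_dvd_natCard _)
    have h6 : Nat.gcd 2 (Nat.card Q) = 1 := by
      rw [← hqd]
      exact (Nat.prime_two.coprime_iff_not_dvd.mpr (by omega))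
    rw [h6, Nat.dvd_one, orderOf_eq_one_iff] at h5
    rw [show a = 1 from congrArg Subtype.val h5, one_mul]
    exact hb
  -- the second point
  obtain ⟨o, ho, hDo⟩ : ∃ o : G ⧸ N, o ≠ p ∧ ∀ d ∈ D, d • o = o := by
    by_cases hD : D = ⊥
    · obtain ⟨o, ho⟩ := Fintype.exists_ne_of_one_lt_card (show 1 < Fintype.card (G ⧸ N) by omega) p
      exact ⟨o, ho, fun d hd => by rw [hD, Subgroup.mem_bot] at hd; rw [hd, one_smul]⟩
    · obtain ⟨-, u, hu2, huD, huinv, -⟩ := hX D le_rfl hD
      have h2 : u * u = 1 := by rw [← pow_two, ← hu2, pow_orderOf_eq_one]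
      refine ⟨u • p, fun h => huD (hinvol u ((hpN u).mp h) h2 ?_), fun d hd => ?_⟩
      · rw [Subgroup.mem_normalizer_iff]
        intro a
        refine ⟨fun ha => ?_, fun ha => ?_⟩
        · rw [huinv a ha]; exact D.inv_mem ha
        · have h3 : u * (u * a * u⁻¹) * u⁻¹ = a := by
            rw [inv_eq_of_mul_eq_one_right h2]
            calc u * (u * a * u) * u = (u * u) * a * (u * u) := by group
              _ = a := by rw [h2]; group
          rw [← h3, huinv _ ha]
          exact D.inv_mem ha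
      · rw [← mul_smul]
        have h1 : d * u = u * d⁻¹ := by
          have := huinv d⁻¹ (D.inv_mem hd)
          rw [inv_inv] at this
          calc d * u = u * d⁻¹ * u⁻¹ * u := by rw [this]
            _ = u * d⁻¹ := by group
        rw [h1, mul_smul, (hpN _).mpr (hDN (D.inv_mem hd))]
  set H := stabilizer G p ⊓ stabilizer G o with hHdef
  have hHD : H = D := by
    have hle : D ≤ H := fun d hd => Subgroup.mem_inf.mpr
      ⟨mem_stabilizer_iff.mpr ((hpN d).mpr (hDN hd)), mem_stabilizer_iff.mpr (hDo d hd)⟩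
    refine (Subgroup.eq_of_le_of_card_ge hle ?_).symm
    have hHN : H ≤ N := inf_le_left.trans hstab.le
    have hdis : Disjoint Q H := by
      rw [Subgroup.disjoint_def]
      exact fun hx hxH => hsemi _ hx o ho (mem_stabilizer_iff.mp (Subgroup.mem_inf.mp hxH).2)
    have hinj : Function.Injective
        (fun ab : Q × H => (⟨(ab.1 : G) * ab.2, N.mul_mem (hQN ab.1.2) (hHN ab.2.2)⟩ : N)) :=
      fun ab cd h => Subgroup.mul_injective_of_disjoint hdis (congrArg Subtype.val h)
    have := Nat.card_le_card_of_injective _ hinj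
    rw [Nat.card_prod, hcardN] at this
    exact Nat.le_of_mul_le_mul_left this Nat.card_pos
  have h2 : IsMultiplyPretransitive G (G ⧸ N) 2 := by
    rw [is_two_pretransitive_iff]
    intro a b c d hab hcd
    obtain ⟨g₁, h1, h1'⟩ := htrans a b hab o ho
    obtain ⟨g₂, h2, h2'⟩ := htrans c d hcd o ho
    refine ⟨g₂⁻¹ * g₁, ?_, ?_⟩
    · rw [mul_smul, h1, ← h2, inv_smul_smul]
    · rw [mul_smul, h1', ← h2', inv_smul_smul]
  have h3 : FixAtMostTwo G (G ⧸ N) := by
    intro g a b c hab hbc hac ha hb hc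
    obtain ⟨k, hka, hkb⟩ := htrans a b hab o ho
    set h := k * g * k⁻¹ with hh
    have hfix : ∀ w : G ⧸ N, g • w = w → h • (k • w) = k • w := fun w hw => by
      rw [hh, mul_smul, mul_smul, inv_smul_smul, hw]
    have hhp : h • p = p := by rw [← hka]; exact hfix a ha
    have hho : h • o = o := by rw [← hkb]; exact hfix b hb
    have hhD : h ∈ D := hHD ▸ Subgroup.mem_inf.mpr
      ⟨mem_stabilizer_iff.mpr hhp, mem_stabilizer_iff.mpr hho⟩
    by_contra hg
    have hh1 : h ≠ 1 := fun e => hg (by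
      calc g = k⁻¹ * h * k := by rw [hh]; group
        _ = 1 := by rw [e]; group)
    have hcp : k • c ≠ p := fun e => hac (smul_left_cancel k (hka.trans e.symm))
    obtain ⟨⟨x, hx⟩, hxo, -⟩ := hreg o (k • c) ho hcp
    have hxD : x⁻¹ * h * x ∈ D := hHD ▸ Subgroup.mem_inf.mpr
      ⟨mem_stabilizer_iff.mpr (by
          rw [mul_smul, mul_smul, hQp x hx, hhp, hQp _ (Q.inv_mem hx)]),
        mem_stabilizer_iff.mpr (by
          rw [mul_smul, mul_smul, hxo, hfix c hc, ← hxo, inv_smul_smul])⟩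
    have hcom : h⁻¹ * (x⁻¹ * h * x) = 1 := by
      have h1 : h⁻¹ * (x⁻¹ * h * x) ∈ Q := by
        have hc' : h⁻¹ * x⁻¹ * h ∈ Q := by
          have := (Subgroup.mem_normalizer_iff.mp (N.inv_mem (hDN hhD)) x⁻¹).mp (Q.inv_mem hx)
          rwa [inv_inv] at this
        have := Q.mul_mem hc' hx
        simpa [mul_assoc] using this
      have h2 : h⁻¹ * (x⁻¹ * h * x) ∈ D := D.mul_mem (D.inv_mem hhD) hxD
      exact (Subgroup.mem_bot).mp (hQD ▸ Subgroup.mem_inf.mpr ⟨h1, h2⟩)
    obtain ⟨hNX, u, hu2, huD, huinv, hND⟩ :=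
      hX (Subgroup.zpowers h) (Subgroup.zpowers_le.mpr hhD) (by simpa using hh1)
    have hxh : Commute x h := by
      have : h = x⁻¹ * h * x := inv_mul_eq_one.mp hcom
      show x * h = h * x
      nth_rw 1 [this]
      group
    have hxmem : x ∈ D ⊔ Subgroup.zpowers u := by
      rw [← hND, ← hNX]
      refine Subgroup.centralizer_le_normalizer _ ?_
      rintro _ ⟨j, rfl⟩
      exact ((hxh.zpow_right j).eq).symm
    have hnorm : Subgroup.zpowers u ≤ Subgroup.normalizer (D : Set G) := by rw [hND]; exact le_sup_right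
    have hx' : x ∈ ((D ⊔ Subgroup.zpowers u : Subgroup G) : Set G) := hxmem
    rw [Subgroup.coe_mul_of_right_le_normalizer_left D _ hnorm] at hx'
    obtain ⟨e, he, f, hf, hef⟩ := hx'
    obtain ⟨j, rfl⟩ := Subgroup.mem_zpowers_iff.mp hf
    rw [← zpow_mod_orderOf u j, hu2] at hef
    rcases Int.emod_two_eq j with hj | hj
    · simp only [Nat.cast_ofNat, hj, zpow_zero, mul_one] at hef
      subst hef
      have : e = 1 := (Subgroup.mem_bot).mp (hQD ▸ Subgroup.mem_inf.mpr ⟨hx, he⟩)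
      have hxo' : (1 : G) • o = k • c := this ▸ hxo
      rw [one_smul] at hxo'
      exact hbc (smul_left_cancel k (hkb.trans hxo'))
    · simp only [Nat.cast_ofNat, hj, zpow_one] at hef
      -- then `u` is an involution of `N`
      have hue : u ∈ N := by
        rw [show u = e⁻¹ * x by rw [← hef, inv_mul_cancel_left]]
        exact N.mul_mem (N.inv_mem (hDN he)) (hQN hx)
      exact huD (hinvol u hue (by rw [← pow_two, ← hu2, pow_orderOf_eq_one])
        (hnorm (Subgroup.mem_zpowers u)))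
  haveI : FaithfulSMul G (G ⧸ N) := by
    refine ⟨fun {g₁ g₂} hg => ?_⟩
    obtain ⟨c₀, hc₀, hc₀'⟩ : ∃ c₀ : G ⧸ N, c₀ ≠ p ∧ c₀ ≠ o := by
      obtain ⟨c, -, hc⟩ := Finset.exists_mem_notMem_of_card_lt_card
        (s := ({p, o} : Finset (G ⧸ N))) (t := Finset.univ)
        (lt_of_le_of_lt Finset.card_le_two (by rw [Finset.card_univ, hcardΩ]; omega))
      exact ⟨c, fun e => hc (by simp [e]), fun e => hc (by simp [e])⟩
    refine inv_mul_eq_one.mp (h3 (g₁⁻¹ * g₂) p o c₀ ho.symm hc₀'.symm hc₀.symm ?_ ?_ ?_) <;>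
      rw [mul_smul, ← hg, inv_smul_smul]
  obtain ⟨c₀, hc₀, hc₀'⟩ : ∃ c₀ : G ⧸ N, c₀ ≠ p ∧ c₀ ≠ o := by
    obtain ⟨c, -, hc⟩ := Finset.exists_mem_notMem_of_card_lt_card
      (s := ({p, o} : Finset (G ⧸ N))) (t := Finset.univ)
      (lt_of_le_of_lt Finset.card_le_two (by rw [Finset.card_univ, hcardΩ]; omega))
    exact ⟨c, fun e => hc (by simp [e]), fun e => hc (by simp [e])⟩
  obtain ⟨F, iF, iFF, hF, -, he⟩ := ZassenhausPGL.exists_mulEquiv_PSL h2 h3 hT ho hc₀ hc₀'
    (fun g hg k hk => by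
      rw [← hHdef, hHD] at hg hk
      exact congrArg Subtype.val (hDab.is_comm.comm (⟨g, hg⟩ : D) ⟨k, hk⟩))
    (by rw [← hHdef, hHD, hcardΩ]; omega)
    (by
      intro s hsp hso h hh
      rw [← hHdef, hHD] at hh
      rcases eq_or_ne h 1 with rfl | hh1
      · simp
      have hD : D ≠ ⊥ := fun e => hh1 (by rwa [e, Subgroup.mem_bot] at hh)
      obtain ⟨-, u, hu2, huD, huinv, hND⟩ := hX D le_rfl hD
      have hs : s ∈ Subgroup.normalizer (D : Set G) := by
        rw [Subgroup.mem_normalizer_iff]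
        have h1 : ∀ x : G, x ∈ D ↔ x • p = p ∧ x • o = o := fun x => by
          rw [← hHD, Subgroup.mem_inf, mem_stabilizer_iff, mem_stabilizer_iff]
        intro x
        have hsp' : s⁻¹ • o = p := by rw [← hsp, inv_smul_smul]
        have hso' : s⁻¹ • p = o := by rw [← hso, inv_smul_smul]
        rw [h1, h1, mul_smul, mul_smul, mul_smul, mul_smul, hso', hsp']
        constructor
        · rintro ⟨h2, h3⟩; rw [h2, h3]; exact ⟨hso, hsp⟩
        · rintro ⟨h2, h3⟩
          exact ⟨smul_left_cancel s (h3.trans hsp.symm), smul_left_cancel s (h2.trans hso.symm)⟩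
      rw [hND] at hs
      have hnorm : Subgroup.zpowers u ≤ Subgroup.normalizer (D : Set G) := by rw [hND]; exact le_sup_right
      have hs' : s ∈ ((D ⊔ Subgroup.zpowers u : Subgroup G) : Set G) := hs
      rw [Subgroup.coe_mul_of_right_le_normalizer_left D _ hnorm] at hs'
      obtain ⟨e, he, f, hf, rfl⟩ := hs'
      obtain ⟨j, rfl⟩ := Subgroup.mem_zpowers_iff.mp hf
      rw [← zpow_mod_orderOf u j, hu2] at hsp ⊢
      rcases Int.emod_two_eq j with hj | hj
      · simp only [Nat.cast_ofNat, hj, zpow_zero, mul_one] at hsp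
        exact absurd (hsp.symm.trans ((hpN e).mpr (hDN he))) ho
      · simp only [Nat.cast_ofNat, hj, zpow_one]
        calc e * u * h * (e * u)⁻¹ = e * (u * h * u⁻¹) * e⁻¹ := by group
          _ = e * h⁻¹ * e⁻¹ := by rw [huinv h hh]
          _ = h⁻¹ := by
            rw [show e * h⁻¹ = h⁻¹ * e from
                congrArg Subtype.val (hDab.is_comm.comm (⟨e, he⟩ : D) ⟨h⁻¹, D.inv_mem hh⟩),
              mul_inv_cancel_right])
  refine ⟨F, iF, iFF, ?_, he⟩
  rw [Nat.odd_iff]
  omega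

end Cfsg.Agent.Lib.BSW
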