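import Cfsg.Agent.Lib.BSW.Order

/-!
Counting in Brauer–Suzuki–Wall groups and the case `|K| = 2`.
-/

set_option autoImplicit false

namespace Cfsg.Agent.Lib.BSW

open Cfsg.Agent.Lib

universe u

namespace Setup

variable {G : Type u} [Group G] [Fintype G] (S : Setup G)

theorem card_outSet :
    (S.outSet.card : ℤ) = (Subgroup.centralizer ({S.t} : Set G)).index * (Nat.card S.K + 1) - 1 := by
  have h := S.sum_split (fun _ => (1 : ℂ)) (fun _ _ => rfl)
  simp only [Finset.sum_const, nsmul_eq_mul, mul_one, Finset.card_univ, ← Nat.card_eq_fintype_card,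
    S.card_eq] at h
  have hp := card_puncture S.K
  have h' : ((2 * Nat.card S.K * (Subgroup.centralizer ({S.t} : Set G)).index : ℕ) : ℂ)
      = ((1 + (Subgroup.centralizer ({S.t} : Set G)).index * (puncture S.K).card + S.outSet.card : ℕ) : ℂ) := by
    rw [h]; push_cast; ring
  have h'' := Nat.cast_injective h'
  rw [← hp] at h''
  rw [← hp]
  zify at h''
  push_cast
  linear_combination -h''

theorem sum_nPairs_out :
    ((∑ g ∈ S.outSet, nPairs g : ℕ) : ℤ) = (Subgroup.centralizer ({S.t} : Set G)).index ^ 2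
      - (Subgroup.centralizer ({S.t} : Set G)).index
      - (Subgroup.centralizer ({S.t} : Set G)).index * (Nat.card S.K - 1 : ℤ) * Nat.card S.K := by
  have h := S.sum_split (fun g => (nPairs g : ℂ)) (fun g w => by simp only [nPairs_conj])
  rw [← Nat.cast_sum, S.sum_nPairs, S.nPairs_one,
    Finset.sum_congr rfl (g := fun _ => (Nat.card S.K : ℂ)) fun a ha => by
      rw [S.nPairs_of_mem (mem_puncture.mp ha).1 (mem_puncture.mp ha).2],
    Finset.sum_const, nsmul_eq_mul, ← Nat.cast_sum] at h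
  have hp := card_puncture S.K
  have h' : (((Subgroup.centralizer ({S.t} : Set G)).index ^ 2 : ℕ) : ℂ)
      = (((Subgroup.centralizer ({S.t} : Set G)).index
          + (Subgroup.centralizer ({S.t} : Set G)).index * ((puncture S.K).card * Nat.card S.K)
          + ∑ g ∈ S.outSet, nPairs g : ℕ) : ℂ) := by
    rw [h]; push_cast; ring
  have h'' := Nat.cast_injective h'
  generalize (∑ g ∈ S.outSet, nPairs g) = M at h'' ⊢
  rw [← hp] at h'' ⊢
  zify at h''
  push_cast
  linear_combination -h''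

theorem one_lt_card_centralizer {g : G} (hg : S.Out g) :
    1 < Nat.card (Subgroup.centralizer ({g} : Set G)) := by
  rw [Finite.one_lt_card_iff_nontrivial]
  exact ⟨⟨⟨g, Subgroup.mem_centralizer_singleton_iff.mpr rfl⟩, 1, fun e => hg.1 (congrArg Subtype.val e)⟩⟩

theorem three_le_card_centralizer {g : G} (hg : S.Out g) :
    3 ≤ Nat.card (Subgroup.centralizer ({g} : Set G)) := by
  obtain ⟨j, hj⟩ := S.odd_card_centralizer_out hg
  have := S.one_lt_card_centralizer hg
  omega

theorem dvd_index_of_out {g : G} (hg : S.Out g) :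
    Nat.card (Subgroup.centralizer ({g} : Set G)) ∣ (Subgroup.centralizer ({S.t} : Set G)).index :=
  (S.coprime_out hg).dvd_of_dvd_mul_left (S.card_eq ▸ Subgroup.card_subgroup_dvd_card _)

theorem mem_conjUnion_self {g : G} (hg : S.Out g) :
    g ∈ conjUnion (Subgroup.centralizer ({g} : Set G)) :=
  mem_conjUnion.mpr ⟨hg.1, 1, by simp [Subgroup.mem_centralizer_singleton_iff]⟩

/-- The conjugates of two tori coincide or are disjoint. -/
theorem disjoint_conjUnion {g g' : G} (hg : S.Out g) (hi : Inverted g) (hg' : S.Out g')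
    (h : g' ∉ conjUnion (Subgroup.centralizer ({g} : Set G))) :
    Disjoint (conjUnion (Subgroup.centralizer ({g} : Set G)))
      (conjUnion (Subgroup.centralizer ({g'} : Set G))) := by
  rw [Finset.disjoint_left]
  intro x hx hx'
  obtain ⟨hx1, a, ha⟩ := mem_conjUnion.mp hx
  obtain ⟨-, b, hb⟩ := mem_conjUnion.mp hx'
  refine h (mem_conjUnion.mpr ⟨hg'.1, a * b⁻¹, ?_⟩)
  rw [← S.centralizer_eq hg hi ha fun e => hx1 (by simpa using e)]
  rw [Subgroup.mem_centralizer_singleton_iff] at hb ⊢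
  calc a * b⁻¹ * g' * (a * b⁻¹)⁻¹ * (a * x * a⁻¹)
      = a * b⁻¹ * (g' * (b * x * b⁻¹)) * b * a⁻¹ := by group
    _ = a * b⁻¹ * ((b * x * b⁻¹) * g') * b * a⁻¹ := by rw [hb]
    _ = (a * x * a⁻¹) * (a * b⁻¹ * g' * (a * b⁻¹)⁻¹) := by group

theorem conjUnion_subset_inverted {g : G} (hg : S.Out g) (hi : Inverted g) :
    ∀ x ∈ conjUnion (Subgroup.centralizer ({g} : Set G)), x ∈ S.outSet ∧ Inverted x ∧
      nPairs x = Nat.card (Subgroup.centralizer ({g} : Set G)) := by
  intro x hx
  obtain ⟨ho, hxi, hc⟩ := S.card_centralizer_of_mem_conjUnion hg hi hx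
  exact ⟨S.mem_outSet.mpr ho, hxi, by rw [S.nPairs_inverted ho hxi, hc]⟩

theorem sum_nPairs_conjUnion {g : G} (hg : S.Out g) (hi : Inverted g) :
    ∑ x ∈ conjUnion (Subgroup.centralizer ({g} : Set G)), nPairs x
      = (conjUnion (Subgroup.centralizer ({g} : Set G))).card
        * Nat.card (Subgroup.centralizer ({g} : Set G)) := by
  rw [Finset.sum_congr rfl (g := fun _ => Nat.card (Subgroup.centralizer ({g} : Set G)))
    fun x hx => (S.conjUnion_subset_inverted hg hi x hx).2.2, Finset.sum_const, smul_eq_mul]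

theorem order_two (hk : Nat.card S.K = 2) :
    ((Subgroup.centralizer ({S.t} : Set G)).index = 15 ∧ ∀ g, S.Out g → Inverted g) ∨
    ((Subgroup.centralizer ({S.t} : Set G)).index = 3 ∧ ∀ g, S.Out g → ¬ Inverted g) := by
  classical
  set n := (Subgroup.centralizer ({S.t} : Set G)).index with hn
  have hn0 : 0 < n := Nat.pos_of_ne_zero Subgroup.index_ne_zero_of_finite
  have hO : (S.outSet.card : ℤ) = n * 3 - 1 := by rw [S.card_outSet, hk]; norm_num [hn]
  have hP : ((∑ g ∈ S.outSet, nPairs g : ℕ) : ℤ) = (n : ℤ) ^ 2 - 3 * n := by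
    rw [S.sum_nPairs_out, hk, ← hn]; ring
  -- one torus
  have htor : ∀ g, S.Out g → Inverted g →
      (conjUnion (Subgroup.centralizer ({g} : Set G))).card * Nat.card (Subgroup.centralizer ({g} : Set G))
        = 2 * n * (Nat.card (Subgroup.centralizer ({g} : Set G)) - 1) := by
    intro g hg hi
    have h := S.card_conjUnion_torus hg hi
    obtain ⟨u, hu, hug⟩ := hi
    obtain ⟨E, huE, -, -, -, hN, -, hEk, -⟩ := S.torus_normalizer hg hu hug
    have hE : Nat.card E = 2 := by
      rw [hk] at hEk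
      have h2 := orderOf_dvd_natCard (⟨u, huE⟩ : E)
      rw [← Subgroup.orderOf_coe, hu] at h2
      exact Nat.dvd_antisymm hEk h2
    rw [hN, hE, S.card_eq, hk, ← hn] at h
    apply Nat.eq_of_mul_eq_mul_left two_pos
    linear_combination h
  by_cases hR : ∀ g, S.Out g → ¬ Inverted g
  · right
    refine ⟨?_, hR⟩
    rw [Finset.sum_eq_zero fun g hg => S.nPairs_not_inverted (S.mem_outSet.mp hg)
      (hR g (S.mem_outSet.mp hg))] at hP
    have : (n : ℤ) * ((n : ℤ) - 3) = 0 := by push_cast at hP; linear_combination -hP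
    rcases mul_eq_zero.mp this with h | h <;> omega
  · left
    push Not at hR
    obtain ⟨g₁, hg₁, hi₁⟩ := hR
    set U₁ := conjUnion (Subgroup.centralizer ({g₁} : Set G)) with hU₁
    set m₁ := Nat.card (Subgroup.centralizer ({g₁} : Set G)) with hm₁
    have hU₁O : U₁ ⊆ S.outSet := fun x hx => (S.conjUnion_subset_inverted hg₁ hi₁ x hx).1
    have e₁ : U₁.card * m₁ = 2 * n * (m₁ - 1) := htor g₁ hg₁ hi₁
    have h3₁ : 3 ≤ m₁ := S.three_le_card_centralizer hg₁
    by_cases hR2 : ∀ g, S.Out g → Inverted g → g ∈ U₁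
    · exfalso
      have hs : ∑ g ∈ S.outSet, nPairs g = 2 * n * (m₁ - 1) := by
        rw [← Finset.sum_subset hU₁O fun g hg hg' => S.nPairs_not_inverted (S.mem_outSet.mp hg)
          fun hi => hg' (hR2 g (S.mem_outSet.mp hg) hi), S.sum_nPairs_conjUnion hg₁ hi₁, e₁]
      rw [hs, Nat.cast_mul, Nat.cast_mul, Nat.cast_sub (by omega)] at hP
      have hnm : n = 2 * m₁ + 1 := by
        have : (n : ℤ) * ((n : ℤ) - (2 * m₁ + 1)) = 0 := by push_cast at hP; linear_combination -hP
        rcases mul_eq_zero.mp this with h | h <;> omega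
      have hd := S.dvd_index_of_out hg₁
      rw [← hn, ← hm₁, hnm, Nat.dvd_add_right (dvd_mul_left _ _), Nat.dvd_one] at hd
      omega
    push Not at hR2
    obtain ⟨g₂, hg₂, hi₂, hg₂U⟩ := hR2
    set U₂ := conjUnion (Subgroup.centralizer ({g₂} : Set G)) with hU₂
    set m₂ := Nat.card (Subgroup.centralizer ({g₂} : Set G)) with hm₂
    have hU₂O : U₂ ⊆ S.outSet := fun x hx => (S.conjUnion_subset_inverted hg₂ hi₂ x hx).1
    have e₂ : U₂.card * m₂ = 2 * n * (m₂ - 1) := htor g₂ hg₂ hi₂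
    have h3₂ : 3 ≤ m₂ := S.three_le_card_centralizer hg₂
    have d₁₂ : Disjoint U₁ U₂ := S.disjoint_conjUnion hg₁ hi₁ hg₂ hg₂U
    have hbig : ∀ (U : Finset G) (m : ℕ), 3 ≤ m → U.card * m = 2 * n * (m - 1) → 4 * n ≤ 3 * U.card := by
      intro U m hm e
      obtain ⟨j, rfl⟩ : ∃ j, m = j + 1 := ⟨m - 1, by omega⟩
      rw [Nat.add_sub_cancel] at e
      nlinarith
    have hall : ∀ g, S.Out g → Inverted g → g ∈ U₁ ∪ U₂ := by
      intro g₃ hg₃ hi₃
      by_contra h
      rw [Finset.mem_union, not_or] at h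
      set U₃ := conjUnion (Subgroup.centralizer ({g₃} : Set G))
      have d₁₃ : Disjoint U₁ U₃ := S.disjoint_conjUnion hg₁ hi₁ hg₃ h.1
      have d₂₃ : Disjoint U₂ U₃ := S.disjoint_conjUnion hg₂ hi₂ hg₃ h.2
      have hsub : U₁ ∪ U₂ ∪ U₃ ⊆ S.outSet := Finset.union_subset (Finset.union_subset hU₁O hU₂O)
        fun x hx => (S.conjUnion_subset_inverted hg₃ hi₃ x hx).1
      have hc := Finset.card_le_card hsub
      rw [Finset.card_union_of_disjoint (Finset.disjoint_union_left.mpr ⟨d₁₃, d₂₃⟩),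
        Finset.card_union_of_disjoint d₁₂] at hc
      have := hbig U₁ m₁ h3₁ e₁
      have := hbig U₂ m₂ h3₂ e₂
      have := hbig U₃ _ (S.three_le_card_centralizer hg₃) (htor g₃ hg₃ hi₃)
      omega
    have hsub : U₁ ∪ U₂ ⊆ S.outSet := Finset.union_subset hU₁O hU₂O
    have hs : ∑ g ∈ S.outSet, nPairs g = 2 * n * (m₁ - 1) + 2 * n * (m₂ - 1) := by
      rw [← Finset.sum_subset hsub fun g hg hg' => S.nPairs_not_inverted (S.mem_outSet.mp hg)
        fun hi => hg' (hall g (S.mem_outSet.mp hg) hi), Finset.sum_union d₁₂,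
        S.sum_nPairs_conjUnion hg₁ hi₁, S.sum_nPairs_conjUnion hg₂ hi₂, e₁, e₂]
    rw [hs] at hP
    push_cast [Nat.cast_sub (show 1 ≤ m₁ by omega), Nat.cast_sub (show 1 ≤ m₂ by omega)] at hP
    have hnm : n + 1 = 2 * (m₁ + m₂) := by
      have : (n : ℤ) * ((n : ℤ) + 1 - 2 * (m₁ + m₂)) = 0 := by linear_combination -hP
      rcases mul_eq_zero.mp this with h | h <;> omega
    have hc := Finset.card_le_card hsub
    rw [Finset.card_union_of_disjoint d₁₂] at hc
    have hineq : m₁ * m₂ * (n + 1) ≤ 2 * n * (m₁ + m₂) := by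
      have hc' : ((U₁.card : ℤ) + U₂.card) ≤ n * 3 - 1 := by rw [← hO]; exact_mod_cast hc
      have e₁' : (U₁.card : ℤ) * m₁ = 2 * n * ((m₁ : ℤ) - 1) := by
        rw [show ((m₁ : ℤ) - 1) = ((m₁ - 1 : ℕ) : ℤ) by omega]; exact_mod_cast e₁
      have e₂' : (U₂.card : ℤ) * m₂ = 2 * n * ((m₂ : ℤ) - 1) := by
        rw [show ((m₂ : ℤ) - 1) = ((m₂ - 1 : ℕ) : ℤ) by omega]; exact_mod_cast e₂
      have := mul_le_mul_of_nonneg_left hc' (show (0 : ℤ) ≤ (m₁ : ℤ) * m₂ by positivity)
      zify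
      nlinarith
    have hlt : m₁ * m₂ < 2 * (m₁ + m₂) := by nlinarith
    have hd₁ := S.dvd_index_of_out hg₁
    have hd₂ := S.dvd_index_of_out hg₂
    rw [← hn, ← hm₁] at hd₁
    rw [← hn, ← hm₂] at hd₂
    have ho₁ : Odd m₁ := S.odd_card_centralizer_out hg₁
    have ho₂ : Odd m₂ := S.odd_card_centralizer_out hg₂
    rw [Nat.odd_iff] at ho₁ ho₂
    have hm₁b : m₁ ≤ 5 := by nlinarith
    have hm₂b : m₂ ≤ 5 := by nlinarith
    have hcase : n = 15 ∧ U₁.card + U₂.card = 44 := by
      interval_cases hA : m₁ <;> interval_cases hB : m₂ <;> omega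
    refine ⟨hcase.1, fun g hg => ?_⟩
    have heq : U₁ ∪ U₂ = S.outSet := Finset.eq_of_subset_of_card_le hsub (by
      rw [Finset.card_union_of_disjoint d₁₂]
      omega)
    have hmem := S.mem_outSet.mpr hg
    rw [← heq, Finset.mem_union] at hmem
    rcases hmem with h | h
    · exact (S.conjUnion_subset_inverted hg₁ hi₁ g h).2.1
    · exact (S.conjUnion_subset_inverted hg₂ hi₂ g h).2.1

/-- The two possible configurations. -/
theorem order_all :
    ((Subgroup.centralizer ({S.t} : Set G)).index = (2 * Nat.card S.K + 1) * (Nat.card S.K + 1) ∧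
      ∀ g, S.Out g → Inverted g ∧
        (Nat.card S.K : ℤ) ∣ (Nat.card (Subgroup.centralizer ({g} : Set G)) : ℤ) - 1) ∨
    ((Subgroup.centralizer ({S.t} : Set G)).index = (2 * Nat.card S.K - 1) * (Nat.card S.K - 1) ∧
      ∀ g, S.Out g → Inverted g →
        Nat.card (Subgroup.centralizer ({g} : Set G)) = Nat.card S.K - 1) := by
  by_cases hk : 4 ≤ Nat.card S.K
  · exact S.order_four hk
  · have := S.even_card_K
    have := Nat.card_pos (α := S.K)
    have hk2 : Nat.card S.K = 2 := by omega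
    rcases S.order_two hk2 with ⟨hn, h⟩ | ⟨hn, h⟩
    · left
      refine ⟨by rw [hn, hk2], fun g hg => ⟨h g hg, ?_⟩⟩
      obtain ⟨j, hj⟩ := S.odd_card_centralizer_out hg
      rw [hj, hk2]
      exact ⟨j, by push_cast; ring⟩
    · right
      exact ⟨by rw [hn, hk2], fun g hg hi => absurd hi (h g hg)⟩

end Setup

end Cfsg.Agent.Lib.BSW
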